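import Cfsg.Agent.HexRing.Def

/-!
# The two factors of `K[ω]`, `ω² = β + ω`, when `c² + c = β` has a solution in `F`
-/

set_option autoImplicit false

namespace Cfsg.Agent.HexEight.Alg

open Cfsg.Agent.HexRec Cfsg.Agent.HexRing.Def

variable {F K : Type*} [Field F] [Field K] [Algebra F K] (C : Cubic F K) {β : F}

/-- `a ↦ a (ω + c)` -/
def psi (β c : F) (a : K) : MQ K β := ⟨algebraMap F K c * a, a⟩

/-- `a ↦ a (ω + c)` -/
def psiF (β c : F) (a : F) : RQ β := ⟨c * a, a⟩

theorem psi_add (c : F) (a b : K) : psi β c (a + b) = psi β c a + psi β c b := by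
  ext
  · exact mul_add _ _ _
  · rfl

theorem psiF_add (c a b : F) : psiF β c (a + b) = psiF β c a + psiF β c b := by
  ext
  · exact mul_add _ _ _
  · rfl

section mul

variable {c : F} (hc : c * c + c = β)

include C hc

theorem hc' : c * c = c + β := by
  linear_combination hc - C.two_F * c

theorem hcK : algebraMap F K c * algebraMap F K c = algebraMap F K c + algebraMap F K β := by
  rw [← map_mul, hc' C hc, map_add]

theorem psi_mul (a b : K) : psi β c a * psi β c b = psi β c (a * b) := by
  have h2 := C.two_K
  ext
  · simp only [psi, QuadraticAlgebra.re_mul]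
    linear_combination (a * b) * hcK C hc + (algebraMap F K β * a * b) * h2
  · simp only [psi, QuadraticAlgebra.im_mul]
    linear_combination (algebraMap F K c * a * b) * h2

theorem psiF_mul (a b : F) : psiF β c a * psiF β c b = psiF β c (a * b) := by
  have h2 := C.two_F
  ext
  · simp only [psiF, QuadraticAlgebra.re_mul]
    linear_combination (a * b) * hc' C hc + (β * a * b) * h2
  · simp only [psiF, QuadraticAlgebra.im_mul]
    linear_combination (c * a * b) * h2

theorem psi_mul' (a b : K) : psi β c a * psi β (c + 1) b = 0 := by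
  have h2 := C.two_K
  ext
  · simp only [psi, QuadraticAlgebra.re_mul, map_add, map_one, QuadraticAlgebra.re_zero]
    linear_combination (a * b) * hcK C hc + (algebraMap F K c * a * b + algebraMap F K β * a * b) * h2
  · simp only [psi, QuadraticAlgebra.im_mul, map_add, map_one, QuadraticAlgebra.im_zero]
    linear_combination (algebraMap F K c * a * b + a * b) * h2

theorem psiF_mul' (a b : F) : psiF β c a * psiF β (c + 1) b = 0 := by
  have h2 := C.two_F
  ext
  · simp only [psiF, QuadraticAlgebra.re_mul, QuadraticAlgebra.re_zero]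
    linear_combination (a * b) * hc' C hc + (c * a * b + β * a * b) * h2
  · simp only [psiF, QuadraticAlgebra.im_mul, QuadraticAlgebra.im_zero]
    linear_combination (c * a * b + a * b) * h2

theorem hc_succ : (c + 1) * (c + 1) + (c + 1) = β := by
  linear_combination hc + C.two_F * (c + 1)

omit hc in
include C in
theorem succ_succ : c + 1 + 1 = c := by linear_combination C.two_F

omit C hc in
theorem incl_psiF (a : F) : incl K (psiF β c a) = psi β c (algebraMap F K a) := by
  ext
  · exact map_mul _ _ _
  · rfl

omit C in
theorem sh_psi (C : Cubic F K) (a : K) : shQ C (psi β c a) = psi β c (C.sh a) := by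
  have h1 : C.sh (algebraMap F K c * a) = algebraMap F K c ^ 2 * C.sh a := by rw [C.sh_mul, C.sh_map]
  have h2 : C.cr (algebraMap F K c * a) a = 0 := by
    unfold Cubic.cr
    have h3 : algebraMap F K c * a + a = algebraMap F K (c + 1) * a := by rw [map_add, map_one]; ring
    rw [h3, C.sh_mul, C.sh_mul, C.sh_map, C.sh_map, map_add, map_one]
    linear_combination (algebraMap F K c ^ 2 * C.sh a + algebraMap F K c * C.sh a + C.sh a) * C.two_K
  ext
  · simp only [shQ, psi]
    rw [h1]
    linear_combination (C.sh a) * hcK C hc + (algebraMap F K β * C.sh a) * C.two_K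
  · simp only [shQ, psi]
    rw [h2, zero_add]

omit hc in
theorem cr_smul_right (f : F) (a b : K) : C.cr a (algebraMap F K f * b) = algebraMap F K f * C.cr a b := by
  apply sub_eq_zero.1
  apply C.T_nondeg
  intro s
  have h : ∀ u v w : K, C.T (C.cr u v) w = C.T u (C.cr v w) := C.T_cr
  have e1 : C.T (C.cr a (algebraMap F K f * b)) s = f * C.T (C.cr a b) s := by
    rw [C.cr_comm, C.T_cr, ← Algebra.smul_def, C.T_smul_left, C.cr_comm a b, C.T_cr]
  have e2 : C.T (algebraMap F K f * C.cr a b) s = f * C.T (C.cr a b) s := by
    rw [← Algebra.smul_def, C.T_smul_left]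
  have e3 : C.cr a (algebraMap F K f * b) - algebraMap F K f * C.cr a b =
      C.cr a (algebraMap F K f * b) + algebraMap F K f * C.cr a b := by
    rw [sub_eq_add_neg, C.neg_eqK]
  rw [e3, C.T_add_left, e1, e2, C.add_self]

omit hc in
theorem cr_smul_left (f : F) (a b : K) : C.cr (algebraMap F K f * a) b = algebraMap F K f * C.cr a b := by
  rw [C.cr_comm, cr_smul_right, C.cr_comm]

theorem cr_psi (a b : K) : crQ C (psi β c a) (psi β c b) = psi β c (C.cr a b) := by
  have h2 := C.two_K
  ext
  · simp only [crQ, psi, cr_smul_left, cr_smul_right]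
    linear_combination (C.cr a b) * hcK C hc + (algebraMap F K β * C.cr a b) * h2
  · simp only [crQ, psi, cr_smul_left, cr_smul_right]
    linear_combination (algebraMap F K c * C.cr a b) * h2

theorem cr_psi' (a b : K) : crQ C (psi β c a) (psi β (c + 1) b) = 0 := by
  have h2 := C.two_K
  ext
  · simp only [crQ, psi, cr_smul_left, cr_smul_right, QuadraticAlgebra.re_zero]
    simp only [map_add, map_one]
    linear_combination (C.cr a b) * hcK C hc + (algebraMap F K c * C.cr a b + algebraMap F K β * C.cr a b) * h2
  · simp only [crQ, psi, cr_smul_left, cr_smul_right, QuadraticAlgebra.im_zero]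
    simp only [map_add, map_one]
    linear_combination (algebraMap F K c * C.cr a b + C.cr a b) * h2

theorem T_psi (a b : K) : TQ C (psi β c a) (psi β c b) = psiF β c (C.T a b) := by
  unfold TQ
  rw [psi_mul C hc]
  ext
  · change C.tr (algebraMap F K c * (a * b)) = c * C.tr (a * b)
    rw [← Algebra.smul_def, map_smul, smul_eq_mul]
  · rfl

theorem T_psi' (a b : K) : TQ C (psi β c a) (psi β (c + 1) b) = 0 := by
  unfold TQ
  rw [psi_mul' C hc]
  ext
  · exact map_zero _
  · exact map_zero _

theorem N_psi (a : K) : NQ C (psi β c a) = psiF β c (C.N a) := by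
  unfold NQ
  rw [sh_psi hc, T_psi C hc, C.T_self_sh]

end mul

end Cfsg.Agent.HexEight.Alg
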