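import Cfsg.Agent.StdRank2.HexBN
import Cfsg.Agent.HexGrow.Defs

/-!
# S1778, types `G₂(q)`, `³D₄(q)`: structure constants of the grown group (interface)

`Gr σ x t V`: a hexagonal root system `x` (HexTwo) of a small group commuting with the involution `t`, and the twelve
doubled root groups `V k`.  It follows from `HexGrow.Defs.Grown`, see `gr_of_grown`.
-/

set_option autoImplicit false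

namespace Cfsg.Agent.HexEight.Def

open Cfsg.Agent.StdRank2.Hex Cfsg.Agent.SplitTwo Cfsg.Agent.StdRank2.Hex.HexTwo
open scoped commutatorElement

variable {E : Type*} [Field E] (σ : E ≃+* E) {G : Type*} [Group G] (x : ZMod 12 → E → G) (t : G)
  (V : ZMod 12 → Subgroup G)

/-- The grown root groups. -/
structure Gr : Prop where
  hex : HexTwo σ x
  tt : t * t = 1
  tx : ∀ k a, Ok σ k a → t * x k a = x k a * t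
  le : ∀ k a, Ok σ k a → x k a ∈ V k
  sq : ∀ k, ∀ y ∈ V k, y * y = 1
  br : ∀ k, ∀ y ∈ V k, ∃ a, Ok σ k a ∧ ⁅t, y⁆ = x k a
  onto : ∀ k a, Ok σ k a → ∃ y ∈ V k, ⁅t, y⁆ = x k a
  fix : ∀ k, ∀ y ∈ V k, y * t = t * y → ∃ a, Ok σ k a ∧ y = x k a
  h1V : ∀ s, s ≠ 0 → ∀ k, ∀ y ∈ V k, hh x 1 s * y * (hh x 1 s)⁻¹ ∈ V k
  h6V : ∀ s, s ≠ 0 → σ s = s → ∀ k, ∀ y ∈ V k, hh x 6 s * y * (hh x 6 s)⁻¹ ∈ V k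
  nV : ∀ c k, ∀ y ∈ V k, nn x c * y * (nn x c)⁻¹ ∈ V (2 * c + 6 - k)
  c1 : ∀ r, ∀ a ∈ V r, ∀ b ∈ V (r + 1), a * b = b * a
  c3 : ∀ r, ∀ a ∈ V r, ∀ b ∈ V (r + 3), a * b = b * a
  l2 : ∀ r : ZMod 12, r.val % 2 = 0 → ∀ a ∈ V r, ∀ b ∈ V (r + 2), a * b = b * a
  l4 : ∀ r : ZMod 12, r.val % 2 = 0 → ∀ a ∈ V r, ∀ b ∈ V (r + 4), ⁅a, b⁆ ∈ V (r + 2)
  s2 : ∀ r : ZMod 12, r.val % 2 = 1 → ∀ a ∈ V r, ∀ b ∈ V (r + 2), ⁅a, b⁆ ∈ V (r + 1)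
  s4 : ∀ r : ZMod 12, r.val % 2 = 1 → ∀ a ∈ V r, ∀ b ∈ V (r + 4), ⁅a, b⁆ ∈ V (r + 1) ⊔ V (r + 2) ⊔ V (r + 3)
  c5 : ∀ r, ∀ a ∈ V r, ∀ b ∈ V (r + 5), ⁅a, b⁆ ∈ V (r + 1) ⊔ V (r + 2) ⊔ V (r + 3) ⊔ V (r + 4)
  /-- unique normal form -/
  nf : ∀ a₁ ∈ V 1, ∀ a₂ ∈ V 2, ∀ a₃ ∈ V 3, ∀ a₄ ∈ V 4, ∀ a₅ ∈ V 5, ∀ a₆ ∈ V 6,
    ∀ b₁ ∈ V 1, ∀ b₂ ∈ V 2, ∀ b₃ ∈ V 3, ∀ b₄ ∈ V 4, ∀ b₅ ∈ V 5, ∀ b₆ ∈ V 6,
    a₁ * a₂ * a₃ * a₄ * a₅ * a₆ = b₁ * b₂ * b₃ * b₄ * b₅ * b₆ →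
    a₁ = b₁ ∧ a₂ = b₂ ∧ a₃ = b₃ ∧ a₄ = b₄ ∧ a₅ = b₅ ∧ a₆ = b₆

variable {σ x t V}

/-- the instance from the growth -/
theorem gr_of_grown (hx : HexTwo σ x) (htt : t * t = 1) (htx : ∀ k a, Ok σ k a → t * x k a = x k a * t)
    {T : Subgroup G} {X : ZMod 12 → Subgroup G} (hX : ∀ k g, g ∈ X k ↔ ∃ a, Ok σ k a ∧ g = x k a)
    (hT1 : ∀ s, s ≠ 0 → hh x 1 s ∈ T) (hT6 : ∀ s, s ≠ 0 → σ s = s → hh x 6 s ∈ T)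
    (g : HexGrow.Defs.Grown t T X (nn x) V) : Gr σ x t V where
  hex := hx
  tt := htt
  tx := htx
  le k a ha := g.le k ((hX k _).2 ⟨a, ha, rfl⟩)
  sq := g.sq
  br k y hy := (hX k _).1 (g.br k y hy)
  onto k a ha := g.onto k _ ((hX k _).2 ⟨a, ha, rfl⟩)
  fix k y hy e := (hX k _).1 (g.fix k y hy e)
  h1V s hs k y hy := g.TV _ (hT1 s hs) k y hy
  h6V s hs hs' k y hy := g.TV _ (hT6 s hs hs') k y hy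
  nV := g.nV
  c1 := g.c1
  c3 := g.c3
  l2 r hr := g.l2 r hr
  l4 r hr := g.l4 r hr
  s2 r hr := g.s2 r (by unfold HexGrow.Defs.Ev; omega)
  s4 r hr := g.s4 r (by unfold HexGrow.Defs.Ev; omega)
  c5 := g.c5
  nf := g.nf 1

end Cfsg.Agent.HexEight.Def
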