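import Cfsg.Agent.HexEight.Main
import Cfsg.Agent.WreathFusion.HexPair

/-!
# The split case of the growth as data of Theorem W
-/

set_option autoImplicit false
set_option linter.unusedSectionVars false

namespace Cfsg.Agent.HexEight.Glue

open Cfsg.Agent.StdRank2.Hex Cfsg.Agent.SplitTwo Cfsg.Agent.StdRank2.Hex.HexTwo Cfsg.Agent.HexEight.Def
open Cfsg.Agent.HexEight.Main Cfsg.Agent.HexGrow.Defs Cfsg.Agent.WreathFusion Cfsg.Agent.WreathFusion.HexPair
open scoped commutatorElement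

section Gr

variable {E : Type*} [Field E] {σ : E ≃+* E} {G : Type*} [Group G] {x : ZMod 12 → E → G} {t : G}
  {V : ZMod 12 → Subgroup G} (g : Gr σ x t V)

include g in
/-- root elements are in the product of the positive root groups -/
theorem mem_UU {k : ZMod 12} (hk : k ∈ (arc 1 6 : Set (ZMod 12))) {y : G} (hy : y ∈ V k) : y ∈ UU V 1 := by
  have h1 : V 1 ≤ UU V 1 := le_sup_of_le_left (le_sup_of_le_left (le_sup_of_le_left (le_sup_of_le_left le_sup_left)))
  have h2 : V (1 + 1) ≤ UU V 1 :=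
    le_sup_of_le_left (le_sup_of_le_left (le_sup_of_le_left (le_sup_of_le_left le_sup_right)))
  have h3 : V (1 + 2) ≤ UU V 1 := le_sup_of_le_left (le_sup_of_le_left (le_sup_of_le_left le_sup_right))
  have h4 : V (1 + 3) ≤ UU V 1 := le_sup_of_le_left (le_sup_of_le_left le_sup_right)
  have h5 : V (1 + 4) ≤ UU V 1 := le_sup_of_le_left le_sup_right
  have h6 : V (1 + 5) ≤ UU V 1 := le_sup_right
  rw [mem_arc] at hk
  have : k = 1 ∨ k = 1 + 1 ∨ k = 1 + 2 ∨ k = 1 + 3 ∨ k = 1 + 4 ∨ k = 1 + 5 := by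
    revert hk; clear * -; revert k; decide
  rcases this with rfl | rfl | rfl | rfl | rfl | rfl
  exacts [h1 hy, h2 hy, h3 hy, h4 hy, h5 hy, h6 hy]

end Gr

variable {K : Type*} [Field K] {σ : K ≃+* K} {G : Type*} [Group G] {x : ZMod 12 → K → G} {t : G}
  {V : ZMod 12 → Subgroup G} {y1 y2 : ZMod 12 → K → G}

theorem isPair (h : Split σ x t V y1 y2) : IsPair σ y1 y2 :=
  ⟨h.hex1, h.hex2, fun k l a b ha hb => (h.comm k l a b ha hb).eq⟩

theorem Gen_eq (y : ZMod 12 → K → G) (S : Set (ZMod 12)) : Gen σ y S = gen σ y S := by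
  apply le_antisymm
  · unfold Gen
    rw [Subgroup.closure_le]
    rintro _ ⟨k, hk, a, ha, rfl⟩
    exact x_mem_gen hk ha
  · exact gen_le fun k hk a ha => Subgroup.subset_closure ⟨k, hk, a, ha, rfl⟩

/-- `Ŝ = S₁ S₂` -/
theorem UU_eq (g : Gr σ x t V) (h : Split σ x t V y1 y2) :
    UU V 1 = gen σ y1 (arc 1 6) ⊔ gen σ y2 (arc 1 6) := by
  apply le_antisymm
  · have key : ∀ k ∈ (arc 1 6 : Set (ZMod 12)), V k ≤ gen σ y1 (arc 1 6) ⊔ gen σ y2 (arc 1 6) := by
      intro k hk y hy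
      obtain ⟨a, b, ha, hb, rfl⟩ := h.surj k y hy
      exact Subgroup.mul_mem_sup (x_mem_gen hk ha) (x_mem_gen hk hb)
    refine sup_le (sup_le (sup_le (sup_le (sup_le ?_ ?_) ?_) ?_) ?_) ?_ <;>
    · apply key
      rw [mem_arc]
      decide
  · exact sup_le (gen_le fun k hk a ha => mem_UU g hk (h.mem1 k a ha))
      (gen_le fun k hk a ha => mem_UU g hk (h.mem2 k a ha))

/-- **The split case: data of Theorem W.** -/
theorem pdata [Finite K] (g : Gr σ x t V) (h : Split σ x t V y1 y2)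
    (hq : 2 < Nat.card {a : K // σ a = a} ∨ (Nat.card {a : K // σ a = a} = 2 ∧ 4 < Nat.card K)) :
    PData (UU V 1) (gen σ y1 (arc 1 6)) (gen σ y2 (arc 1 6)) (gen σ y1 Set.univ) (gen σ y2 Set.univ) := by
  rw [UU_eq g h]
  exact (isPair h).pdata hq

end Cfsg.Agent.HexEight.Glue
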