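import Mathlib

/-!
# Equivariant sections of elementary abelian 2-groups

`exists_section`: an additive surjection `π` from an elementary abelian 2-subgroup `V` onto `A`, equivariant under a
finite group of odd order, has an additive equivariant section (average a linear section).
-/

set_option autoImplicit false

namespace Cfsg.Agent.HexEight.Sec

theorem comm_of_sq {G : Type*} [Group G] (h : ∀ y : G, y * y = 1) (a b : G) : a * b = b * a := by
  have ha : a⁻¹ = a := inv_eq_of_mul_eq_one_left (h a)
  have hb : b⁻¹ = b := inv_eq_of_mul_eq_one_left (h b)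
  have hab : (a * b)⁻¹ = a * b := inv_eq_of_mul_eq_one_left (h (a * b))
  rw [← hab, mul_inv_rev, ha, hb]

/-- additive version: `M` and `A` of exponent two -/
theorem exists_section_add {M A : Type*} [AddCommGroup M] [AddCommGroup A] (hM : ∀ m : M, m + m = 0)
    (hA : ∀ a : A, a + a = 0) (π : M →+ A) (hs : Function.Surjective π) {T : Type*} [Group T] [Finite T]
    (hT : Odd (Nat.card T)) (η : T → M →+ M) (χ : T → A →+ A) (hη : ∀ p q m, η (p * q) m = η p (η q m))
    (hη1 : ∀ m, η 1 m = m) (hπ : ∀ p m, π (η p m) = χ p (π m)) :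
    ∃ z : A →+ M, (∀ a, π (z a) = a) ∧ ∀ p a, η p (z a) = z (χ p a) := by
  classical
  let _ : Module (ZMod 2) M := AddCommGroup.zmodModule (n := 2) (fun m => by rw [two_nsmul, hM])
  let _ : Module (ZMod 2) A := AddCommGroup.zmodModule (n := 2) (fun m => by rw [two_nsmul, hA])
  obtain ⟨s, hs'⟩ := LinearMap.exists_rightInverse_of_surjective (AddMonoidHom.toZModLinearMap 2 π)
    (LinearMap.range_eq_top.2 hs)
  have hs1 : ∀ a, π (s a) = a := fun a => LinearMap.congr_fun hs' a
  have : Fintype T := Fintype.ofFinite T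
  have hχ : ∀ p q a, χ (p * q) a = χ p (χ q a) := by
    intro p q a
    rw [← hs1 a, ← hπ, hη, hπ, hπ]
  have hχ1 : ∀ a, χ 1 a = a := by
    intro a
    nth_rewrite 1 [← hs1 a]
    rw [← hπ, hη1, hs1]
  have odd_smul : ∀ a : A, Fintype.card T • a = a := by
    intro a
    obtain ⟨k, hk⟩ := hT
    rw [← Nat.card_eq_fintype_card, hk, add_smul, one_smul, mul_comm, mul_smul, two_nsmul, hA, smul_zero, zero_add]
  let z : A →+ M := ∑ p : T, (η p⁻¹).comp (s.toAddMonoidHom.comp (χ p))
  have hz : ∀ a, z a = ∑ p : T, η p⁻¹ (s (χ p a)) := by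
    intro a
    simp [z]
  refine ⟨z, fun a => ?_, fun q a => ?_⟩
  · rw [hz, map_sum]
    have : ∀ p : T, π (η p⁻¹ (s (χ p a))) = a := by
      intro p
      rw [hπ, hs1, ← hχ, inv_mul_cancel, hχ1]
    rw [Finset.sum_congr rfl (fun p _ => this p), Finset.sum_const, Finset.card_univ, odd_smul]
  · rw [hz, hz, map_sum]
    refine Fintype.sum_equiv (Equiv.mulRight q⁻¹) _ _ (fun p => ?_)
    rw [Equiv.coe_mulRight, ← hη, ← hχ, mul_inv_rev, inv_inv, mul_assoc p, inv_mul_cancel, mul_one]

/-- multiplicative version -/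
theorem exists_section {G : Type*} [Group G] {V : Subgroup G} (hsq : ∀ y ∈ V, y * y = 1) {A : Type*}
    [AddCommGroup A] (hA : ∀ a : A, a + a = 0) (π : V → A) (hπ : ∀ y y', π (y * y') = π y + π y')
    (hs : Function.Surjective π) {T : Type*} [Group T] [Finite T] (hT : Odd (Nat.card T)) (η : T →* G)
    (hη : ∀ p, ∀ y ∈ V, η p * y * (η p)⁻¹ ∈ V) (χ : T → A → A) (hχ : ∀ p a b, χ p (a + b) = χ p a + χ p b)
    (hπη : ∀ p (y : V), π ⟨η p * y * (η p)⁻¹, hη p y y.2⟩ = χ p (π y)) :
    ∃ z : A → G, (∀ a, ∃ h : z a ∈ V, π ⟨z a, h⟩ = a) ∧ (∀ a b, z (a + b) = z a * z b) ∧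
      ∀ p a, η p * z a * (η p)⁻¹ = z (χ p a) := by
  have hsq' : ∀ y : V, y * y = 1 := fun y => Subtype.ext (hsq y y.2)
  let _ : CommGroup V := { (inferInstance : Group V) with mul_comm := comm_of_sq hsq' }
  let π' : Additive V →+ A :=
    { toFun := fun y => π y.toMul
      map_zero' := by
        have h1 : π (1 : V) = π 1 + π 1 := by rw [← hπ, mul_one]
        exact left_eq_add.1 h1
      map_add' := fun a b => hπ _ _ }
  let η' : T → Additive V →+ Additive V := fun p =>
    { toFun := fun y => Additive.ofMul ⟨η p * y.toMul * (η p)⁻¹, hη p _ y.toMul.2⟩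
      map_zero' := by
        apply Additive.toMul.injective
        apply Subtype.ext
        simp
      map_add' := fun a b => by
        apply Additive.toMul.injective
        apply Subtype.ext
        change η p * ((a.toMul : G) * (b.toMul : G)) * (η p)⁻¹ =
          (η p * (a.toMul : G) * (η p)⁻¹) * (η p * (b.toMul : G) * (η p)⁻¹)
        group }
  let χ' : T → A →+ A := fun p => AddMonoidHom.mk' (χ p) (hχ p)
  obtain ⟨z, h1, h2⟩ := exists_section_add (M := Additive V) (A := A) (fun m => by
    apply Additive.toMul.injective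
    exact hsq' m.toMul) hA π' (fun a => by
      obtain ⟨y, hy⟩ := hs a
      exact ⟨Additive.ofMul y, hy⟩) hT η' χ' (fun p q m => by
      apply Additive.toMul.injective
      apply Subtype.ext
      change η (p * q) * (m.toMul : G) * (η (p * q))⁻¹ = η p * (η q * (m.toMul : G) * (η q)⁻¹) * (η p)⁻¹
      rw [map_mul]
      group) (fun m => by
      apply Additive.toMul.injective
      apply Subtype.ext
      change η 1 * (m.toMul : G) * (η 1)⁻¹ = m.toMul
      simp) (fun p m => hπη p m.toMul)
  refine ⟨fun a => ((z a).toMul : V), fun a => ⟨(z a).toMul.2, h1 a⟩, fun a b => ?_, fun p a => ?_⟩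
  · exact congrArg (fun m : Additive V => ((m.toMul : V) : G)) (map_add z a b)
  · exact congrArg (fun m : Additive V => ((m.toMul : V) : G)) (h2 p a)

end Cfsg.Agent.HexEight.Sec
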