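import Cfsg.Agent.HexEight.Def
import Cfsg.Agent.HexEight.Sec

/-!
# Labels on the grown root groups

`exists_lab`: maps `z k : E → V k`, additive, `[t, z k b] = x k b`, permuted by the Weyl group as the `x k`, with the
same torus weights.
-/

set_option autoImplicit false
set_option linter.dupNamespace false

namespace Cfsg.Agent.HexEight.Lab

open Cfsg.Agent.StdRank2.Hex Cfsg.Agent.SplitTwo Cfsg.Agent.StdRank2.Hex.HexTwo Cfsg.Agent.HexEight.Def
open scoped commutatorElement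

variable {E : Type*} [Field E] {σ : E ≃+* E} {G : Type*} [Group G] {x : ZMod 12 → E → G} {t : G}
  {V : ZMod 12 → Subgroup G}

/-- The labels. -/
structure Lab (σ : E ≃+* E) (x : ZMod 12 → E → G) (t : G) (V : ZMod 12 → Subgroup G) (z : ZMod 12 → E → G) :
    Prop where
  mem : ∀ k b, Ok σ k b → z k b ∈ V k
  br : ∀ k b, Ok σ k b → ⁅t, z k b⁆ = x k b
  add : ∀ k a b, Ok σ k a → Ok σ k b → z k (a + b) = z k a * z k b
  refl : ∀ c k b, Ok σ k b → nn x c * z k b * (nn x c)⁻¹ = z (2 * c + 6 - k) b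
  tor1 : ∀ s, s ≠ 0 → ∀ k b, Ok σ k b → hh x 1 s * z k b * (hh x 1 s)⁻¹ = z k (chS σ (k - 1) s * b)
  tor6 : ∀ s, s ≠ 0 → σ s = s → ∀ k b, Ok σ k b → hh x 6 s * z k b * (hh x 6 s)⁻¹ = z k (chL (k - 6) s * b)

section basic

variable (g : Gr σ x t V)

include g

theorem t_nn (c : ZMod 12) : Commute t (nn x c) := by
  unfold nn
  exact ((show Commute t (x c 1) from g.tx c 1 (ok_one σ c)).mul_right
    (show Commute t (x (c + 6) 1) from g.tx _ 1 (ok_one σ _))).mul_right (g.tx c 1 (ok_one σ c))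

theorem t_rho (m : ℕ) : Commute t (rho x ^ m) := by
  unfold rho
  exact ((t_nn g 1).mul_right (t_nn g 6)).pow_right m

theorem t_hh (k : ZMod 12) {s : E} (hs : Ok σ k s) : Commute t (hh x k s) := by
  unfold hh nt
  have h1 : Commute t (x k s) := g.tx k s hs
  have h2 : Commute t (x (k + 6) s⁻¹) := g.tx _ _ (hs.inv.congr (val_add_6 k))
  exact ((h1.mul_right h2).mul_right h1).mul_right (t_nn g k)

variable [Finite E]

theorem t_H {p : G} (hp : p ∈ g.hex.H) : Commute t p := by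
  obtain ⟨s, u, hs, hu, hu', rfl⟩ := hp
  exact (t_hh g 1 (ok1 s)).mul_right (t_hh g 6 (ok_of_fix _ hu'))

theorem HV {p : G} (hp : p ∈ g.hex.H) {k : ZMod 12} {y : G} (hy : y ∈ V k) : p * y * p⁻¹ ∈ V k := by
  obtain ⟨s, u, hs, hu, hu', rfl⟩ := hp
  have e : hh x 1 s * hh x 6 u * y * (hh x 1 s * hh x 6 u)⁻¹ =
      hh x 1 s * (hh x 6 u * y * (hh x 6 u)⁻¹) * (hh x 1 s)⁻¹ := by group
  rw [e]
  exact g.h1V s hs k _ (g.h6V u hu hu' k y hy)

/-- the torus as a quotient of `Eˣ × Eˣ` restricted to fixed points: finiteness -/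
theorem finite_H : Finite g.hex.H := by
  let f : E × E → G := fun p => hh x 1 p.1 * hh x 6 p.2
  have : (g.hex.H : Set G) ⊆ Set.range f := by
    rintro _ ⟨s, u, hs, hu, hu', rfl⟩
    exact ⟨(s, u), rfl⟩
  exact (Set.finite_range f).subset this

omit g in
theorem odd_of_pow {T : Type*} [Group T] [Finite T] {n : ℕ} (hn : Odd n) (h : ∀ p : T, p ^ n = 1) :
    Odd (Nat.card T) := by
  by_contra hc
  rw [Nat.not_odd_iff_even] at hc
  have : Fact (Nat.Prime 2) := ⟨Nat.prime_two⟩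
  obtain ⟨p, hp⟩ := exists_prime_orderOf_dvd_card' (G := T) 2 (even_iff_two_dvd.1 hc)
  have h1 : 2 ∣ n := by rw [← hp]; exact orderOf_dvd_of_pow_eq_one (h p)
  exact (Nat.not_even_iff_odd.2 hn) (even_iff_two_dvd.2 h1)

theorem odd_card_sub : Odd (Nat.card E - 1) := by
  have h2 := g.hex.two
  have : CharP E 2 := CharTwo.of_one_ne_zero_of_two_eq_zero one_ne_zero h2
  have : Fintype E := Fintype.ofFinite E
  obtain ⟨n, hp, hn⟩ := FiniteField.card E 2
  rw [Nat.card_eq_fintype_card, hn]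
  exact Nat.Even.sub_odd Nat.one_le_two_pow ((Nat.even_pow.2 ⟨even_two, n.ne_zero⟩)) odd_one

theorem pow_H {p : G} (hp : p ∈ g.hex.H) : p ^ (Nat.card E - 1) = 1 := by
  obtain ⟨s, u, hs, hu, hu', rfl⟩ := hp
  have : Fintype E := Fintype.ofFinite E
  have hcomm := g.hex.hh_commute 1 6 hs hu (ok1 s) (ok_of_fix _ hu')
  have key : ∀ (l : ZMod 12) (s : E), s ≠ 0 → Ok σ l s → ∀ n : ℕ, hh x l s ^ n = hh x l (s ^ n) := by
    intro l s hs hok n
    have hpok : ∀ n : ℕ, Ok σ l (s ^ n) := fun n h0 => by rw [map_pow, hok h0]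
    induction n with
    | zero => rw [pow_zero, pow_zero, g.hex.hh_one]
    | succ n ih => rw [pow_succ, pow_succ, ih, g.hex.hh_mul l (pow_ne_zero n hs) hs (hpok n) hok]
  rw [hcomm.mul_pow, key 1 s hs (ok1 s), key 6 u hu (ok_of_fix _ hu'), Nat.card_eq_fintype_card,
    FiniteField.pow_card_sub_one_eq_one s hs, FiniteField.pow_card_sub_one_eq_one u hu, g.hex.hh_one, g.hex.hh_one,
    mul_one]

theorem odd_H : Odd (Nat.card g.hex.H) := by
  have := finite_H g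
  exact odd_of_pow (odd_card_sub g) fun p => Subtype.ext (pow_H g p.2)

end basic

/-- admissible parameters -/
def AK (σ : E ≃+* E) (k : ZMod 12) : AddSubgroup E where
  carrier := {a | Ok σ k a}
  zero_mem' := ok_zero σ k
  add_mem' h h' := Ok.add h h'
  neg_mem' h := fun h0 => by rw [map_neg, h h0]

variable (g : Gr σ x t V)

include g

omit [Field E] g in
theorem t_conj {k : ZMod 12} {y : G} {a : E} (e : ⁅t, y⁆ = x k a) : t * y * t⁻¹ = x k a * y := by
  rw [← e, commutatorElement_def]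
  group

theorem comm_V {k : ZMod 12} {y y' : G} (hy : y ∈ V k) (hy' : y' ∈ V k) : y * y' = y' * y := by
  have := Sec.comm_of_sq (G := V k) (fun y => Subtype.ext (g.sq k y y.2)) ⟨y, hy⟩ ⟨y', hy'⟩
  exact congrArg Subtype.val this

theorem br_mul {k : ZMod 12} {y y' : G} (hy : y ∈ V k) {a a' : E} (ha : Ok σ k a) (ha' : Ok σ k a')
    (e : ⁅t, y⁆ = x k a) (e' : ⁅t, y'⁆ = x k a') : ⁅t, y * y'⁆ = x k (a + a') := by
  have h1 := t_conj e
  have h2 := t_conj e'
  rw [g.hex.add k a a' ha ha', commutatorElement_def]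
  have c1 : y * x k a' = x k a' * y := comm_V g hy (g.le k a' ha')
  calc t * (y * y') * t⁻¹ * (y * y')⁻¹ = (t * y * t⁻¹) * (t * y' * t⁻¹) * (y * y')⁻¹ := by group
    _ = x k a * (y * x k a') * y' * (y * y')⁻¹ := by rw [h1, h2]; group
    _ = x k a * x k a' := by rw [c1]; group

theorem exists_base [Finite E] (k : ZMod 12) : ∃ z : E → G, (∀ b, Ok σ k b → z b ∈ V k ∧ ⁅t, z b⁆ = x k b) ∧
    (∀ a b, Ok σ k a → Ok σ k b → z (a + b) = z a * z b) ∧
    ∀ p ∈ g.hex.H, ∀ w, Ok σ k w → (∀ a, Ok σ k a → p * x k a * p⁻¹ = x k (w * a)) →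
      ∀ b, Ok σ k b → p * z b * p⁻¹ = z (w * b) := by
  classical
  have hfin := finite_H g
  choose f hf1 hf2 using fun y : V k => g.br k y y.2
  choose w _ hw1 hw2 using fun p : g.hex.H => g.hex.H_diag p.2 k
  have uniq : ∀ {a b : E}, Ok σ k a → Ok σ k b → x k a = x k b → a = b := fun ha hb e =>
    (g.hex.x_inj ha hb).1 e
  obtain ⟨z, h1, h2, h3⟩ := Sec.exists_section (V := V k) (g.sq k) (A := AK σ k)
    (fun a => Subtype.ext (g.hex.add_self a)) (fun y => ⟨f y, hf1 y⟩) (by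
      intro y y'
      apply Subtype.ext
      exact uniq (hf1 _) ((hf1 _).add (hf1 _)) (by
        rw [← hf2]
        exact br_mul g y.2 (hf1 _) (hf1 _) (hf2 _) (hf2 _)))
    (by
      rintro ⟨a, ha⟩
      obtain ⟨y, hy, e⟩ := g.onto k a ha
      refine ⟨⟨y, hy⟩, Subtype.ext (uniq (hf1 _) ha ?_)⟩
      rw [← hf2, ← e])
    (odd_H g) g.hex.H.subtype (fun p y hy => HV g p.2 hy)
    (fun p a => ⟨w p * a, (hw1 p).mul a.2⟩) (fun p a b => Subtype.ext (mul_add _ _ _)) (by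
      intro p y
      apply Subtype.ext
      refine uniq (hf1 _) ((hw1 p).mul (hf1 _)) ?_
      rw [← hf2, ← hw2 p _ (hf1 _), ← hf2]
      have ct := (t_H g p.2).eq
      simp only [Subgroup.coe_subtype, commutatorElement_def]
      calc t * ((p : G) * y * (p : G)⁻¹) * t⁻¹ * ((p : G) * y * (p : G)⁻¹)⁻¹ =
          (t * p) * y * (t * p)⁻¹ * (p * (y : G)⁻¹ * (p : G)⁻¹) := by group
        _ = (p : G) * (t * y * t⁻¹ * (y : G)⁻¹) * (p : G)⁻¹ := by rw [ct]; group)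
  refine ⟨fun b => if hb : Ok σ k b then z ⟨b, hb⟩ else 1, fun b hb => ?_, fun a b ha hb => ?_, ?_⟩
  · simp only [dif_pos hb]
    obtain ⟨m, e⟩ := h1 ⟨b, hb⟩
    refine ⟨m, ?_⟩
    have := hf2 ⟨z ⟨b, hb⟩, m⟩
    rw [this]
    congr 1
    exact congrArg Subtype.val e
  · simp only [dif_pos ha, dif_pos hb, dif_pos (ha.add hb)]
    exact h2 ⟨a, ha⟩ ⟨b, hb⟩
  · intro p hp w' hw' e b hb
    simp only [dif_pos hb, dif_pos (hw'.mul hb)]
    have e1 : w ⟨p, hp⟩ = w' := by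
      have e2 := hw2 ⟨p, hp⟩ 1 (ok_one σ k)
      rw [e 1 (ok_one σ k), mul_one, mul_one] at e2
      exact (uniq hw' (hw1 _) e2).symm
    have := h3 ⟨p, hp⟩ ⟨b, hb⟩
    simp only [Subgroup.coe_subtype] at this
    rw [this]
    congr 1
    exact Subtype.ext (show w ⟨p, hp⟩ * b = w' * b by rw [e1])

/-- the reflection fixing `k` centralises `V k` -/
theorem nn_comm {k : ZMod 12} {y : G} (hy : y ∈ V k) : Commute (nn x (k + 3)) y := by
  have h1 : Commute (x (k + 3) 1) y := (g.c3 k y hy _ (g.le _ 1 (ok_one σ _))).symm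
  have h2 : Commute (x (k + 3 + 6) 1) y := by
    have h3 := g.c3 (k + 3 + 6) _ (g.le _ 1 (ok_one σ _)) y
    rw [show k + 3 + 6 + 3 = k + 12 by ring, twelve_eq, add_zero] at h3
    exact h3 hy
  unfold nn
  exact (h1.mul_left h2).mul_left h1

theorem nn_comm' {k : ZMod 12} {y : G} (hy : y ∈ V k) : Commute (nn x (k - 3)) y := by
  have h := nn_comm g hy
  rw [← g.hex.nn_opp, show k + 3 + 6 = k - 3 + 12 by ring, twelve_eq, add_zero] at h
  exact h

theorem rho_V (m : ℕ) {k : ZMod 12} {y : G} (hy : y ∈ V k) : rho x ^ m * y * (rho x ^ m)⁻¹ ∈ V (k + 2 * m) := by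
  induction m with
  | zero => simpa using hy
  | succ m ih =>
    have e : rho x ^ (m + 1) * y * (rho x ^ (m + 1))⁻¹ =
        nn x 1 * (nn x 6 * (rho x ^ m * y * (rho x ^ m)⁻¹) * (nn x 6)⁻¹) * (nn x 1)⁻¹ := by
      rw [pow_succ']
      generalize rho x ^ m = r
      rw [rho]; group
    rw [e]
    have := g.nV 1 _ _ (g.nV 6 _ _ ih)
    rw [show (2 : ZMod 12) * 1 + 6 - (2 * 6 + 6 - (k + 2 * m)) = k + 2 * ((m + 1 : ℕ) : ZMod 12) - 12 by
      push_cast; ring, twelve_eq, sub_zero] at this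
    exact this

omit g in
theorem idx_aux : ∀ c k r0 : ZMod 12, (k - r0).val % 2 = 0 →
    (2 * c + 6 - k - r0).val % 2 = 0 ∧
    (c - ((k - r0).val / 2 : ℕ) - ((2 * c + 6 - k - r0).val / 2 : ℕ) = r0 + 3 ∨
      c - ((k - r0).val / 2 : ℕ) - ((2 * c + 6 - k - r0).val / 2 : ℕ) = r0 - 3) := by
  decide +kernel

omit g in
theorem idx_two : ∀ k r0 : ZMod 12, (k - r0).val % 2 = 0 → r0 + 2 * ((k - r0).val / 2 : ℕ) = k := by
  decide +kernel

/-- transport of a map from the index `r0` to the index `k` -/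
def tr (x : ZMod 12 → E → G) (r0 : ZMod 12) (z : E → G) (k : ZMod 12) (b : E) : G :=
  rho x ^ ((k - r0).val / 2) * z b * (rho x ^ ((k - r0).val / 2))⁻¹

theorem tr_mem {r0 k : ZMod 12} {z : E → G} {b : E} (hz : z b ∈ V r0) (hk : (k - r0).val % 2 = 0) :
    tr x r0 z k b ∈ V k := by
  have := rho_V g ((k - r0).val / 2) hz
  rwa [idx_two k r0 hk] at this

theorem tr_br {r0 k : ZMod 12} {z : E → G} {b : E} (hb : Ok σ r0 b) (hz : ⁅t, z b⁆ = x r0 b)
    (hk : (k - r0).val % 2 = 0) : ⁅t, tr x r0 z k b⁆ = x k b := by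
  have h1 := g.hex.rot_pow ((k - r0).val / 2) r0 hb
  rw [idx_two k r0 hk] at h1
  have h2 := (t_rho g ((k - r0).val / 2)).eq
  unfold tr
  rw [show nn x 1 * nn x 6 = rho x from rfl, ← hz] at h1
  rw [← h1]
  generalize rho x ^ ((k - r0).val / 2) = r at *
  simp only [commutatorElement_def]
  calc t * (r * z b * r⁻¹) * t⁻¹ * (r * z b * r⁻¹)⁻¹ = (t * r) * z b * (t * r)⁻¹ * (r * (z b)⁻¹ * r⁻¹) := by group
    _ = _ := by rw [h2]; group

theorem nn_rho (m : ℕ) (c : ZMod 12) : nn x c * rho x ^ m = nn x (c - m) := by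
  have h1 := g.hex.rho_pow_mul_nn m (c - m)
  rw [sub_add_cancel] at h1
  have h2 : (rho x ^ m * nn x (c - m))⁻¹ = nn x c := by rw [h1, g.hex.nn_inv]
  rw [mul_inv_rev, g.hex.nn_inv] at h2
  rw [← h2]
  group

theorem tr_nn {r0 k : ZMod 12} {z : E → G} {b : E} (hz : z b ∈ V r0) (hk : (k - r0).val % 2 = 0) (c : ZMod 12) :
    nn x c * tr x r0 z k b * (nn x c)⁻¹ = tr x r0 z (2 * c + 6 - k) b := by
  obtain ⟨_, h2⟩ := idx_aux c k r0 hk
  unfold tr
  generalize hm : (k - r0).val / 2 = m at *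
  generalize hm' : (2 * c + 6 - k - r0).val / 2 = m' at *
  have e1 : nn x c * (rho x ^ m * z b * (rho x ^ m)⁻¹) * (nn x c)⁻¹ = nn x (c - m) * z b * (nn x (c - m))⁻¹ := by
    rw [← nn_rho g m c]; group
  have e2 : nn x (c - m) = rho x ^ m' * nn x (c - m - m') := by
    rw [g.hex.rho_pow_mul_nn, sub_add_cancel]
  have e3 : Commute (nn x (c - m - m')) (z b) := by
    rcases h2 with h2 | h2 <;> rw [h2]
    · exact nn_comm g hz
    · exact nn_comm' g hz
  rw [e1, e2]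
  calc rho x ^ m' * nn x (c - m - m') * z b * (rho x ^ m' * nn x (c - m - m'))⁻¹ =
      rho x ^ m' * (nn x (c - m - m') * z b) * (nn x (c - m - m'))⁻¹ * (rho x ^ m')⁻¹ := by group
    _ = _ := by rw [e3.eq]; group

theorem tr_H [Finite E] {r0 k : ZMod 12} {z : E → G}
    (hz : ∀ p ∈ g.hex.H, ∀ w, Ok σ r0 w → (∀ a, Ok σ r0 a → p * x r0 a * p⁻¹ = x r0 (w * a)) →
      ∀ b, Ok σ r0 b → p * z b * p⁻¹ = z (w * b)) (hk : (k - r0).val % 2 = 0) {p : G} (hp : p ∈ g.hex.H) {w : E}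
    (hw : Ok σ r0 w) (e : ∀ a, Ok σ r0 a → p * x k a * p⁻¹ = x k (w * a)) {b : E} (hb : Ok σ r0 b) :
    p * tr x r0 z k b * p⁻¹ = tr x r0 z k (w * b) := by
  have h1 := fun {a : E} (ha : Ok σ r0 a) => g.hex.rot_pow ((k - r0).val / 2) r0 ha
  simp only [idx_two k r0 hk, show nn x 1 * nn x 6 = rho x from rfl] at h1
  unfold tr
  generalize (k - r0).val / 2 = m at *
  have hp' : (rho x ^ m)⁻¹ * p * ((rho x ^ m)⁻¹)⁻¹ ∈ g.hex.H := g.hex.isW_conj_H (g.hex.isW_inv (Or.inl ⟨m, rfl⟩)) hp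
  rw [inv_inv] at hp'
  have := hz _ hp' w hw (fun a ha => by
    calc (rho x ^ m)⁻¹ * p * rho x ^ m * x r0 a * ((rho x ^ m)⁻¹ * p * rho x ^ m)⁻¹ =
        (rho x ^ m)⁻¹ * (p * (rho x ^ m * x r0 a * (rho x ^ m)⁻¹) * p⁻¹) * rho x ^ m := by group
      _ = _ := by rw [h1 ha, e a ha, ← h1 (hw.mul ha)]; group) b hb
  rw [← this]
  group

omit g in
theorem par_even : ∀ k : ZMod 12, k.val % 2 = 0 → (k - 4).val % 2 = 0 := by decide

omit g in
theorem par_odd : ∀ k : ZMod 12, ¬ k.val % 2 = 0 → (k - 3).val % 2 = 0 := by decide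

theorem exists_lab [Finite E] : ∃ z, Lab σ x t V z := by
  classical
  obtain ⟨z4, a4, b4, c4⟩ := exists_base g 4
  obtain ⟨z3, a3, b3, c3⟩ := exists_base g 3
  have o4 : ∀ {k : ZMod 12} {b : E}, k.val % 2 = 0 → Ok σ k b → Ok σ 4 b := fun hk hb => hb.congr (by rw [hk]; rfl)
  have o3 : ∀ b : E, Ok σ 3 b := ok3
  refine ⟨fun k b => if k.val % 2 = 0 then tr x 4 z4 k b else tr x 3 z3 k b, ?_, ?_, ?_, ?_, ?_, ?_⟩
  · intro k b hb
    split_ifs with hk
    · exact tr_mem g (a4 b (o4 hk hb)).1 (par_even k hk)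
    · exact tr_mem g (a3 b (o3 b)).1 (par_odd k hk)
  · intro k b hb
    split_ifs with hk
    · exact tr_br g (o4 hk hb) (a4 b (o4 hk hb)).2 (par_even k hk)
    · exact tr_br g (o3 b) (a3 b (o3 b)).2 (par_odd k hk)
  · intro k a b ha hb
    split_ifs with hk
    · unfold tr
      rw [b4 a b (o4 hk ha) (o4 hk hb)]
      group
    · unfold tr
      rw [b3 a b (o3 a) (o3 b)]
      group
  · intro c k b hb
    rw [val_refl c k]
    split_ifs with hk
    · exact tr_nn g (a4 b (o4 hk hb)).1 (par_even k hk) c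
    · exact tr_nn g (a3 b (o3 b)).1 (par_odd k hk) c
  · intro s hs k b hb
    have e : ∀ a, Ok σ k a → hh x 1 s * x k a * (hh x 1 s)⁻¹ = x k (chS σ (k - 1) s * a) := fun a ha =>
      g.hex.tor1 s hs k a ha
    have hw : Ok σ k (chS σ (k - 1) s) := g.hex.ok_chi 1 k (ok1 s)
    split_ifs with hk
    · exact tr_H g c4 (par_even k hk) (g.hex.hh1_mem_H hs) (o4 hk hw)
        (fun a ha => e a (ha.congr (by rw [hk]; rfl))) (o4 hk hb)
    · exact tr_H g c3 (par_odd k hk) (g.hex.hh1_mem_H hs) (o3 _)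
        (fun a ha => e a (ok_odd (by omega) a)) (o3 b)
  · intro s hs hs' k b hb
    have e : ∀ a, Ok σ k a → hh x 6 s * x k a * (hh x 6 s)⁻¹ = x k (chL (k - 6) s * a) := fun a ha =>
      g.hex.tor6 s hs hs' k a ha
    have hw : Ok σ k (chL (k - 6) s) := g.hex.ok_chi 6 k (ok_of_fix _ hs')
    split_ifs with hk
    · exact tr_H g c4 (par_even k hk) (g.hex.hh6_mem_H hs hs') (o4 hk hw)
        (fun a ha => e a (ha.congr (by rw [hk]; rfl))) (o4 hk hb)
    · exact tr_H g c3 (par_odd k hk) (g.hex.hh6_mem_H hs hs') (o3 _)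
        (fun a ha => e a (ok_odd (by omega) a)) (o3 b)

end Cfsg.Agent.HexEight.Lab
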