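import Cfsg.Agent.HexEight.SplitC
import Cfsg.Agent.HexRing.Hyp

/-!
# Structure of the grown group (types `G₂(q)`, `³D₄(q)`): the split case

`Split σ x t V y1 y2`: the grown root groups are `V k = y1 k · y2 k` with two commuting hexagonal root systems
interchanged by `t`.  `split_or_qr`: a grown system is split, or satisfies the relations over the quadratic extension
`F[ω]`, `ω² = β + ω` without roots in `F`.
-/

set_option autoImplicit false
set_option linter.unusedSectionVars false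

namespace Cfsg.Agent.HexEight.Main

open Cfsg.Agent.StdRank2.Hex Cfsg.Agent.SplitTwo Cfsg.Agent.StdRank2.Hex.HexTwo Cfsg.Agent.HexEight.Def
open Cfsg.Agent.HexEight.Lab Cfsg.Agent.HexEight.ToPos Cfsg.Agent.HexEight.Alg Cfsg.Agent.HexEight.SplitA
open Cfsg.Agent.HexEight.SplitB Cfsg.Agent.HexEight.SplitC
open Cfsg.Agent.HexRing.Def Cfsg.Agent.HexRec Cfsg.Agent.Hex.Defs
open scoped commutatorElement

/-- the group generated by the root groups in `S` -/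
def Gen {K : Type*} [Field K] (σ : K ≃+* K) {G : Type*} [Group G] (x : ZMod 12 → K → G) (S : Set (ZMod 12)) :
    Subgroup G :=
  Subgroup.closure {y : G | ∃ k ∈ S, ∃ a, Ok σ k a ∧ y = x k a}

/-- the positive roots -/
def Pl : Set (ZMod 12) := {1, 2, 3, 4, 5, 6}

/-- **The split case.** -/
structure Split {K : Type*} [Field K] (σ : K ≃+* K) {G : Type*} [Group G] (x : ZMod 12 → K → G) (t : G)
    (V : ZMod 12 → Subgroup G) (y1 y2 : ZMod 12 → K → G) : Prop where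
  hex1 : HexTwo σ y1
  hex2 : HexTwo σ y2
  comm : ∀ k l a b, Ok σ k a → Ok σ l b → Commute (y1 k a) (y2 l b)
  mul : ∀ k a, Ok σ k a → x k a = y1 k a * y2 k a
  t1 : ∀ k a, Ok σ k a → t * y1 k a * t⁻¹ = y2 k a
  t2 : ∀ k a, Ok σ k a → t * y2 k a * t⁻¹ = y1 k a
  mem1 : ∀ k a, Ok σ k a → y1 k a ∈ V k
  mem2 : ∀ k a, Ok σ k a → y2 k a ∈ V k
  surj : ∀ k, ∀ y ∈ V k, ∃ a b, Ok σ k a ∧ Ok σ k b ∧ y = y1 k a * y2 k b
  refl1 : ∀ c k a, Ok σ k a → nn x c * y1 k a * (nn x c)⁻¹ = y1 (2 * c + 6 - k) a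
  refl2 : ∀ c k a, Ok σ k a → nn x c * y2 k a * (nn x c)⁻¹ = y2 (2 * c + 6 - k) a
  tor11 : ∀ s, s ≠ 0 → ∀ k a, Ok σ k a → hh x 1 s * y1 k a * (hh x 1 s)⁻¹ = y1 k (chS σ (k - 1) s * a)
  tor12 : ∀ s, s ≠ 0 → ∀ k a, Ok σ k a → hh x 1 s * y2 k a * (hh x 1 s)⁻¹ = y2 k (chS σ (k - 1) s * a)
  tor61 : ∀ s, s ≠ 0 → σ s = s → ∀ k a, Ok σ k a → hh x 6 s * y1 k a * (hh x 6 s)⁻¹ = y1 k (chL (k - 6) s * a)
  tor62 : ∀ s, s ≠ 0 → σ s = s → ∀ k a, Ok σ k a → hh x 6 s * y2 k a * (hh x 6 s)⁻¹ = y2 k (chL (k - 6) s * a)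
  /-- `S₁ ∩ S₂ = 1` -/
  disj : ∀ u, u ∈ Gen σ y1 Pl → u ∈ Gen σ y2 Pl → u = 1

namespace Split

variable {K : Type*} [Field K] {σ : K ≃+* K} {G : Type*} [Group G] {x : ZMod 12 → K → G} {t : G}
  {V : ZMod 12 → Subgroup G} {y1 y2 : ZMod 12 → K → G} (h : Split σ x t V y1 y2)

include h

/-- `A₁` and `A₂` commute -/
theorem comm_Gen {S T : Set (ZMod 12)} {u v : G} (hu : u ∈ Gen σ y1 S) (hv : v ∈ Gen σ y2 T) : Commute u v := by
  refine comm_closure ?_ hu hv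
  rintro _ ⟨k, _, a, ha, rfl⟩ _ ⟨l, _, b, hb, rfl⟩
  exact h.comm k l a b ha hb

/-- the two families have the same rights -/
theorem symm : Split σ x t V y2 y1 where
  hex1 := h.hex2
  hex2 := h.hex1
  comm k l a b ha hb := (h.comm l k b a hb ha).symm
  mul k a ha := by rw [h.mul k a ha, (h.comm k k a a ha ha).eq]
  t1 := h.t2
  t2 := h.t1
  mem1 := h.mem2
  mem2 := h.mem1
  surj k y hy := by
    obtain ⟨a, b, ha, hb, rfl⟩ := h.surj k y hy
    exact ⟨b, a, hb, ha, (h.comm k k a b ha hb).eq⟩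
  refl1 := h.refl2
  refl2 := h.refl1
  tor11 := h.tor12
  tor12 := h.tor11
  tor61 := h.tor62
  tor62 := h.tor61
  disj u h1 h2 := h.disj u h2 h1

end Split

variable {G : Type*} [Group G] {t : G} {V : ZMod 12 → Subgroup G}
  {F K : Type*} [Field F] [Field K] [Algebra F K] {φ : K ≃ₐ[F] K} {hφ : CubicPair φ} [Finite K]
  {x : ZMod 12 → K → G} (g : Gr (φ : K ≃+* K) x t V)

include g in
theorem split_of_root [Finite G] {z : ZMod 12 → K → G} (L : Lab (φ : K ≃+* K) x t V z)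
    {β : F} {c : K} (hQ : QR hφ g L β c) {c0 : F} (hc : c0 * c0 + c0 = β) :
    Split (φ : K ≃+* K) x t V (fam x z (algebraMap F K c0) c) (fam x z (algebraMap F K (c0 + 1)) c) := by
  have hc1 := hc_succ (OfPair.cubic hφ) hc
  have h0 : (φ : K ≃+* K) (algebraMap F K c0) = algebraMap F K c0 := φ.commutes c0
  have h1 : (φ : K ≃+* K) (algebraMap F K (c0 + 1)) = algebraMap F K (c0 + 1) := φ.commutes _
  have hs : algebraMap F K (c0 + 1) + 1 = algebraMap F K c0 := by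
    rw [← (algebraMap F K).map_one, ← map_add, succ_succ (OfPair.cubic hφ)]
  refine
    { hex1 := hexTwo_fam g L hQ hc
      hex2 := hexTwo_fam g L hQ hc1
      comm := fun k l a b ha hb => Cm_all g L hQ hc k l a b ha hb
      mul := fun k a ha => x_eq g L hQ hc ha
      t1 := fun k a ha => by rw [fam_t g L h0 c ha, map_add, map_one]
      t2 := fun k a ha => by rw [fam_t g L h1 c ha, hs]
      mem1 := fun k a ha => fam_mem g L h0 c ha
      mem2 := fun k a ha => fam_mem g L h1 c ha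
      surj := fun k y hy => by
        obtain ⟨a, b, ha, hb, e⟩ := fam_surj g L h0 c hy
        refine ⟨a, b, ha, hb, ?_⟩
        rw [e, map_add, map_one]
      refl1 := fun c' k a ha => fam_refl g L h0 c c' ha
      refl2 := fun c' k a ha => fam_refl g L h1 c c' ha
      tor11 := fun s hs k a ha => fam_tor1 g L h0 c hs ha
      tor12 := fun s hs k a ha => fam_tor1 g L h1 c hs ha
      tor61 := fun s hs hs' k a ha => fam_tor6 g L h0 c hs hs' ha
      tor62 := fun s hs hs' k a ha => fam_tor6 g L h1 c hs hs' ha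
      disj := ?_ }
  intro u hu1 hu2
  obtain ⟨a1, a2, a3, a4, a5, a6, o2, o4, o6, rfl⟩ := exists_prod g L hQ hc hu1
  obtain ⟨b1, b2, b3, b4, b5, b6, p2, p4, p6, e⟩ := exists_prod g L hQ hc1 hu2
  have m1 := fun (k : ZMod 12) {a : K} (ha : Ok (φ : K ≃+* K) k a) => fam_mem g L h0 c ha
  have m2 := fun (k : ZMod 12) {a : K} (ha : Ok (φ : K ≃+* K) k a) => fam_mem g L h1 c ha
  obtain ⟨q1, q2, q3, q4, q5, q6⟩ := g.nf _ (m1 1 (ok1 a1)) _ (m1 2 o2) _ (m1 3 (ok3 a3)) _ (m1 4 o4) _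
    (m1 5 (ok5 a5)) _ (m1 6 o6) _ (m2 1 (ok1 b1)) _ (m2 2 p2) _ (m2 3 (ok3 b3)) _ (m2 4 p4) _ (m2 5 (ok5 b5)) _
    (m2 6 p6) (by simpa only [mul_assoc] using e)
  have key : ∀ {k : ZMod 12} {a b : K}, Ok (φ : K ≃+* K) k a → Ok (φ : K ≃+* K) k b →
      fam x z (algebraMap F K c0) c k a = fam x z (algebraMap F K (c0 + 1)) c k b → a = 0 := by
    intro k a b ha hb e
    obtain ⟨e1, e2⟩ := Y_inj g L ((ok_dd h0 k).mul ha) ha ((ok_dd h1 k).mul hb) hb e
    subst e2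
    rw [map_add, map_one, dd_succ, add_mul, one_mul] at e1
    exact left_eq_add.1 e1
  rw [key (ok1 a1) (ok1 b1) q1, key o2 p2 q2, key (ok3 a3) (ok3 b3) q3, key o4 p4 q4, key (ok5 a5) (ok5 b5) q5,
    key o6 p6 q6]
  simp only [fam_zero g L h0 c, mul_one]

/-- **Split or quadratic field.** -/
theorem split_or_qr [Finite G] (hφ : CubicPair φ) (hδ : (∃ l : F, l ^ 2 ≠ l) ∨ ∃ a, φ a ≠ a)
    (g : Gr (φ : K ≃+* K) x t V) :
    (∃ y1 y2, Split (φ : K ≃+* K) x t V y1 y2) ∨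
      ∃ (z : ZMod 12 → K → G) (L : Lab (φ : K ≃+* K) x t V z) (β : F) (c : K), QR hφ g L β c ∧
        ¬ ∃ c0 : F, c0 * c0 + c0 = β := by
  obtain ⟨z, L⟩ := exists_lab g
  have hδ' : (∃ l : F, l ^ 2 ≠ l) ∨ ∃ a b : K, (OfPair.cubic hφ).cr a b ≠ 0 := by
    rcases hδ with h | h
    · exact Or.inl h
    · exact Or.inr (HexRing.Hyp.exists_cr hφ h)
  obtain ⟨β, c, hQ⟩ := HexRing.Main.exists_qRel (pos hφ g L) (HexRing.Hyp.exists_N _ hδ') hδ'
  by_cases hc : ∃ c0 : F, c0 * c0 + c0 = β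
  · obtain ⟨c0, hc⟩ := hc
    exact Or.inl ⟨_, _, split_of_root g L hQ hc⟩
  · exact Or.inr ⟨z, L, β, c, hQ, hc⟩

end Cfsg.Agent.HexEight.Main
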