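import Cfsg.Agent.HexEight.Main

/-!
# The group of a hexagonal root system in characteristic two is perfect
-/

set_option autoImplicit false
set_option linter.unusedSectionVars false

namespace Cfsg.Agent.HexEight.Perfect

open Cfsg.Agent.StdRank2.Hex Cfsg.Agent.SplitTwo Cfsg.Agent.StdRank2.Hex.HexTwo Cfsg.Agent.HexEight.Main
open scoped commutatorElement

variable {E : Type*} [Field E] {σ : E ≃+* E} {G : Type*} [Group G] {x : ZMod 12 → E → G} (h : HexTwo σ x)

include h

theorem shp_surj [Finite E] {b : E} (hb : b ≠ 0) : ∃ a, a ≠ 0 ∧ shp σ a = b := by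
  have h1 : ∀ c : E, shp σ c = 1 → c = 1 := by
    intro c hc
    have hn : nrm σ c = c := by
      have : c * shp σ c = nrm σ c := by unfold shp nrm; ring
      rw [← this, hc, mul_one]
    have hf : σ c = c := by
      have := nrm_fix h.cube c
      rwa [hn] at this
    apply h.sq_eq_one
    have : shp σ c = c * c := by unfold shp; rw [hf, hf]
    rw [← this, hc]
  have h0 : ∀ a : E, shp σ a = 0 → a = 0 := fun a ha => by
    by_contra hne
    exact shp_ne_zero hne ha
  have hz : shp σ (0 : E) = 0 := by unfold shp; rw [map_zero, zero_mul]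
  have hinj : Function.Injective (shp σ : E → E) := by
    intro a b e
    by_cases hb : b = 0
    · subst hb
      rw [hz] at e
      exact h0 a e
    · have e1 : shp σ (a * b⁻¹) = 1 := by
        have e2 : shp σ (a * b⁻¹) * shp σ b = shp σ b := by
          rw [← shp_mul, inv_mul_cancel_right₀ hb, e]
        exact mul_right_cancel₀ (shp_ne_zero (σ := σ) hb) (by rw [e2, one_mul])
      have := h1 _ e1
      rwa [mul_inv_eq_one₀ hb] at this
  obtain ⟨a, ha⟩ := Finite.injective_iff_surjective.1 hinj b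
  refine ⟨a, ?_, ha⟩
  rintro rfl
  exact hb (ha ▸ hz)

theorem even_mem {D : Subgroup G} {k : ZMod 12} (hk : k.val % 2 = 0)
    (hD : ∀ k l a b, Ok σ k a → Ok σ l b → ⁅x k a, x l b⁆ ∈ D) {a : E} (ha : σ a = a) : x k a ∈ D := by
  have hk' : (k - 2).val % 2 = 0 := by
    revert k; decide
  have e := h.commL4 hk' ha (map_one σ)
  rw [show k - 2 + 2 = k by ring, mul_one] at e
  rw [← e]
  exact hD _ _ _ _ (ok_of_fix _ ha) (ok_one σ _)

theorem odd_mem [Finite E] (hδ : (∃ l, σ l = l ∧ l ^ 2 ≠ l) ∨ ∃ a, σ a ≠ a) {D : Subgroup G} {k : ZMod 12}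
    (hk : k.val % 2 = 1) (hD : ∀ k l a b, Ok σ k a → Ok σ l b → ⁅x k a, x l b⁆ ∈ D) (c : E) : x k c ∈ D := by
  have hk1 : (k - 2).val % 2 = 1 := by revert k; decide
  have hk2 : (k - 2 + 1).val % 2 = 0 := by revert k; decide
  have hk3 : (k - 2 + 3).val % 2 = 0 := by revert k; decide
  by_cases hc : c = 0
  · rw [hc, h.x_zero]
    exact one_mem _
  rcases hδ with ⟨l, hl, hl2⟩ | ⟨a0, ha0⟩
  · -- `P a t : x k (t a^#) * x (k + 2) (t a) ∈ D`
    have P : ∀ a t, σ t = t → x k (t * shp σ a) * x (k + 2) (t * a) ∈ D := by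
      intro a t ht
      have f1 : σ (t * nrm σ a) = t * nrm σ a := by rw [map_mul, ht, nrm_fix h.cube]
      have f2 : σ (t ^ 2 * nrm σ a) = t ^ 2 * nrm σ a := by rw [map_mul, map_pow, ht, nrm_fix h.cube]
      have e := h.commS5 hk1 a ht
      have m0 := hD (k - 2) (k - 2 + 5) a t (ok_odd hk1 a) (ok_of_fix _ ht)
      have m1 : x (k - 2 + 1) (t * nrm σ a) ∈ D := even_mem h hk2 hD f1
      have m3 : x (k - 2 + 3) (t ^ 2 * nrm σ a) ∈ D := even_mem h hk3 hD f2
      have cm := h.commL1 hk3 f2 (t * a)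
      rw [commutatorElement_eq_one_iff_mul_comm, show k - 2 + 3 + 1 = k - 2 + 4 by ring] at cm
      have e2 : x (k - 2 + 2) (t * shp σ a) * x (k - 2 + 4) (t * a) =
          (x (k - 2 + 1) (t * nrm σ a))⁻¹ * ⁅x (k - 2) a, x (k - 2 + 5) t⁆ * (x (k - 2 + 3) (t ^ 2 * nrm σ a))⁻¹ := by
        rw [e]
        calc x (k - 2 + 2) (t * shp σ a) * x (k - 2 + 4) (t * a) = x (k - 2 + 2) (t * shp σ a) *
            (x (k - 2 + 4) (t * a) * x (k - 2 + 3) (t ^ 2 * nrm σ a)) * (x (k - 2 + 3) (t ^ 2 * nrm σ a))⁻¹ := by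
              group
          _ = _ := by rw [← cm]; group
      rw [show k - 2 + 2 = k by ring, show k - 2 + 4 = k + 2 by ring] at e2
      rw [e2]
      exact mul_mem (mul_mem (inv_mem m1) m0) (inv_mem m3)
    have hl0 : l ≠ 0 := by
      rintro rfl
      exact hl2 (by ring)
    have hl1 : 1 + l ≠ 0 := by
      intro h0
      have e1 : l = 1 := by linear_combination h0 - h.two
      exact hl2 (by rw [e1]; ring)
    obtain ⟨a, _, ha⟩ := shp_surj h hc
    have hs : σ (1 + l)⁻¹ = (1 + l)⁻¹ := by rw [map_inv₀, map_add, map_one, hl]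
    have p1 := P a ((1 + l)⁻¹) hs
    have p2 := P (l * a) ((1 + l)⁻¹ * l⁻¹) (by rw [map_mul, hs, map_inv₀, hl])
    have e1 : (1 + l)⁻¹ * l⁻¹ * (l * a) = (1 + l)⁻¹ * a := by field_simp
    have e2 : (1 + l)⁻¹ * l⁻¹ * shp σ (l * a) = (1 + l)⁻¹ * l * shp σ a := by
      have : shp σ (l * a) = l ^ 2 * shp σ a := by
        rw [shp_mul]
        unfold shp
        rw [hl, hl]
        ring
      rw [this]
      field_simp
    rw [e1, e2] at p2
    have e3 : x k c = x k ((1 + l)⁻¹ * shp σ a) * x (k + 2) ((1 + l)⁻¹ * a) *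
        (x k ((1 + l)⁻¹ * l * shp σ a) * x (k + 2) ((1 + l)⁻¹ * a))⁻¹ := by
      have e4 : c = (1 + l)⁻¹ * shp σ a + (1 + l)⁻¹ * l * shp σ a := by
        rw [← ha]
        field_simp
      have e5 : x k ((1 + l)⁻¹ * l * shp σ a) = (x k ((1 + l)⁻¹ * l * shp σ a))⁻¹ :=
        (h.x_inv (ok_odd hk _)).symm
      nth_rewrite 1 [e4]
      rw [h.add k _ _ (ok_odd hk _) (ok_odd hk _)]
      nth_rewrite 1 [e5]
      group
    rw [e3]
    exact mul_mem p1 (inv_mem p2)
  · have hcr : crs σ 1 a0 ≠ 0 := by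
      unfold crs
      rw [map_one, map_one, one_mul, one_mul]
      intro h0
      apply ha0
      apply σ.injective
      linear_combination h0 - σ a0 * h.two
    obtain ⟨b, _, hb⟩ := shp_surj h (b := c * (crs σ 1 a0)⁻¹) (mul_ne_zero hc (inv_ne_zero hcr))
    have e0 : crs σ b (b * a0) = c := by
      have : crs σ b (b * a0) = shp σ b * crs σ 1 a0 := by
        unfold crs shp
        simp only [map_mul, map_one]
        ring
      rw [this, hb, inv_mul_cancel_right₀ hcr]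
    have e := h.commS4 hk1 b (b * a0)
    have m0 := hD (k - 2) (k - 2 + 4) b (b * a0) (ok_odd hk1 _)
      (ok_odd (by clear * - hk1; revert k; decide) _)
    have m1 : x (k - 2 + 1) (trc σ (shp σ b) (b * a0)) ∈ D := even_mem h hk2 hD (trc_fix h.cube _ _)
    have m3 : x (k - 2 + 3) (trc σ b (shp σ (b * a0))) ∈ D := even_mem h hk3 hD (trc_fix h.cube _ _)
    rw [e0, show k - 2 + 2 = k by ring] at e
    have e2 : x k c = (x (k - 2 + 1) (trc σ (shp σ b) (b * a0)))⁻¹ * ⁅x (k - 2) b, x (k - 2 + 4) (b * a0)⁆ *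
        (x (k - 2 + 3) (trc σ b (shp σ (b * a0))))⁻¹ := by
      rw [e]
      group
    rw [e2]
    exact mul_mem (mul_mem (inv_mem m1) m0) (inv_mem m3)

/-- **Perfectness**: every root element is in the commutator subgroup. -/
theorem x_mem [Finite E] (hδ : (∃ l, σ l = l ∧ l ^ 2 ≠ l) ∨ ∃ a, σ a ≠ a) (k : ZMod 12) {a : E} (ha : Ok σ k a) :
    x k a ∈ ⁅Gen σ x Set.univ, Gen σ x Set.univ⁆ := by
  have hD : ∀ k l a b, Ok σ k a → Ok σ l b → ⁅x k a, x l b⁆ ∈ ⁅Gen σ x Set.univ, Gen σ x Set.univ⁆ :=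
    fun k l a b ha hb => Subgroup.commutator_mem_commutator (Subgroup.subset_closure ⟨k, Set.mem_univ _, a, ha, rfl⟩)
      (Subgroup.subset_closure ⟨l, Set.mem_univ _, b, hb, rfl⟩)
  rcases Nat.mod_two_eq_zero_or_one k.val with hk | hk
  · exact even_mem h hk hD (ha hk)
  · exact odd_mem h hδ hk hD a

theorem perfect [Finite E] (hδ : (∃ l, σ l = l ∧ l ^ 2 ≠ l) ∨ ∃ a, σ a ≠ a) :
    ⁅Gen σ x Set.univ, Gen σ x Set.univ⁆ = Gen σ x Set.univ := by
  apply le_antisymm (Subgroup.commutator_le_self _)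
  unfold Gen
  rw [Subgroup.closure_le]
  rintro _ ⟨k, _, a, ha, rfl⟩
  exact x_mem h hδ k ha

end Cfsg.Agent.HexEight.Perfect
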