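import Cfsg.Agent.HexEight.ToPos
import Cfsg.Agent.HexEight.Alg
import Cfsg.Agent.HexRing.Main

/-!
# The split case: the two families of root groups, positive relations
-/

set_option autoImplicit false
set_option linter.unusedSectionVars false

namespace Cfsg.Agent.HexEight.SplitA

open Cfsg.Agent.StdRank2.Hex Cfsg.Agent.SplitTwo Cfsg.Agent.StdRank2.Hex.HexTwo Cfsg.Agent.HexEight.Def
open Cfsg.Agent.HexEight.Lab Cfsg.Agent.HexEight.ToPos Cfsg.Agent.HexEight.Alg
open Cfsg.Agent.HexRing.Def Cfsg.Agent.HexRec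
open scoped commutatorElement

variable {E : Type*} [Field E] {σ : E ≃+* E} {G : Type*} [Group G] {x : ZMod 12 → E → G} {t : G}
  {V : ZMod 12 → Subgroup G}

/-- the eigenvalue at the root `k` -/
def dd (c0 c : E) (k : ZMod 12) : E := if k.val % 2 = 0 then c0 else c0 + c

/-- the family of root elements belonging to `c0` -/
def fam (x z : ZMod 12 → E → G) (c0 c : E) (k : ZMod 12) (a : E) : G := Y x z k (dd c0 c k * a) a

theorem ok_dd {c0 c : E} (h0 : σ c0 = c0) (k : ZMod 12) : Ok σ k (dd c0 c k) := by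
  intro hk
  unfold dd
  rw [if_pos hk, h0]

theorem dd_congr {c0 c : E} {k l : ZMod 12} (h : l.val % 2 = k.val % 2) : dd c0 c l = dd c0 c k := by
  unfold dd
  rw [h]

theorem dd_succ (c0 c : E) (k : ZMod 12) : dd (c0 + 1) c k = dd c0 c k + 1 := by
  unfold dd
  split_ifs <;> ring

section fam

variable (g : Gr σ x t V) {z : ZMod 12 → E → G} (L : Lab σ x t V z) {c0 : E} (h0 : σ c0 = c0) (c : E)

include g L h0

theorem fam_mem {k : ZMod 12} {a : E} (ha : Ok σ k a) : fam x z c0 c k a ∈ V k :=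
  Y_mem g L ((ok_dd h0 k).mul ha) ha

theorem fam_sq {k : ZMod 12} {a : E} (ha : Ok σ k a) : fam x z c0 c k a * fam x z c0 c k a = 1 :=
  g.sq k _ (fam_mem g L h0 c ha)

theorem fam_inv {k : ZMod 12} {a : E} (ha : Ok σ k a) : (fam x z c0 c k a)⁻¹ = fam x z c0 c k a :=
  inv_eq_of_mul_eq_one_left (fam_sq g L h0 c ha)

theorem fam_add {k : ZMod 12} {a b : E} (ha : Ok σ k a) (hb : Ok σ k b) :
    fam x z c0 c k (a + b) = fam x z c0 c k a * fam x z c0 c k b := by
  unfold fam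
  rw [mul_add]
  exact Y_add g L ((ok_dd h0 k).mul ha) ha ((ok_dd h0 k).mul hb) hb

theorem fam_zero (k : ZMod 12) : fam x z c0 c k 0 = 1 := by
  unfold fam
  rw [mul_zero, Y_zero_right g L, g.hex.x_zero]

theorem fam_eq_one {k : ZMod 12} {a : E} (ha : Ok σ k a) (e : fam x z c0 c k a = 1) : a = 0 := by
  have h1 : fam x z c0 c k a = Y x z k 0 0 := by rw [e, Y_zero_right g L, g.hex.x_zero]
  exact (Y_inj g L ((ok_dd h0 k).mul ha) ha (ok_zero σ k) (ok_zero σ k) h1).2

theorem fam_refl (c' : ZMod 12) {k : ZMod 12} {a : E} (ha : Ok σ k a) :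
    nn x c' * fam x z c0 c k a * (nn x c')⁻¹ = fam x z c0 c (2 * c' + 6 - k) a := by
  unfold fam
  rw [Y_refl g L c' ((ok_dd h0 k).mul ha) ha, dd_congr (val_refl c' k)]

theorem fam_tor1 {s : E} (hs : s ≠ 0) {k : ZMod 12} {a : E} (ha : Ok σ k a) :
    hh x 1 s * fam x z c0 c k a * (hh x 1 s)⁻¹ = fam x z c0 c k (chS σ (k - 1) s * a) := by
  unfold fam
  rw [Y_tor1 g L hs ((ok_dd h0 k).mul ha) ha]
  congr 1
  ring

theorem fam_tor6 {s : E} (hs : s ≠ 0) (hs' : σ s = s) {k : ZMod 12} {a : E} (ha : Ok σ k a) :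
    hh x 6 s * fam x z c0 c k a * (hh x 6 s)⁻¹ = fam x z c0 c k (chL (k - 6) s * a) := by
  unfold fam
  rw [Y_tor6 g L hs hs' ((ok_dd h0 k).mul ha) ha]
  congr 1
  ring

theorem fam_t {k : ZMod 12} {a : E} (ha : Ok σ k a) :
    t * fam x z c0 c k a * t⁻¹ = fam x z (c0 + 1) c k a := by
  unfold fam
  rw [Y_t g L ((ok_dd h0 k).mul ha) ha, dd_succ]
  congr 1
  ring

theorem fam_mul {k : ZMod 12} {a : E} (ha : Ok σ k a) :
    fam x z c0 c k a * fam x z (c0 + 1) c k a = x k a := by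
  have h1 : σ (c0 + 1) = c0 + 1 := by rw [map_add, h0, map_one]
  unfold fam
  rw [← Y_add g L ((ok_dd h0 k).mul ha) ha ((ok_dd h1 k).mul ha) ha, g.hex.add_self, Y_zero_right g L, dd_succ]
  congr 1
  linear_combination (dd c0 c k * a) * g.hex.two

theorem fam_surj {k : ZMod 12} {y : G} (hy : y ∈ V k) :
    ∃ a b, Ok σ k a ∧ Ok σ k b ∧ y = fam x z c0 c k a * fam x z (c0 + 1) c k b := by
  have h1 : σ (c0 + 1) = c0 + 1 := by rw [map_add, h0, map_one]
  obtain ⟨p, q, hp, hq, rfl⟩ := Y_surj g L hy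
  have hd := ok_dd (c := c) h0 k
  have hb : Ok σ k (p + dd c0 c k * q) := hp.add (hd.mul hq)
  have ha : Ok σ k (q + (p + dd c0 c k * q)) := hq.add hb
  refine ⟨q + (p + dd c0 c k * q), p + dd c0 c k * q, ha, hb, ?_⟩
  unfold fam
  rw [← Y_add g L (hd.mul ha) ha ((ok_dd h1 k).mul hb) hb, dd_succ]
  congr 1
  · linear_combination (-(dd c0 c k * q) - dd c0 c k * (p + dd c0 c k * q)) * g.hex.two
  · linear_combination (-(p + dd c0 c k * q)) * g.hex.two

end fam

/-- `[a, b]` from a swap -/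
theorem kk_of_swap {a b s : G} (ha : a * a = 1) (hb : b * b = 1) (e : b * a = a * (s * b)) : kk a b = s := by
  unfold kk
  rw [inv_eq_of_mul_eq_one_left ha, inv_eq_of_mul_eq_one_left hb]
  calc a * b * a * b = a * (b * a) * b := by group
    _ = (a * a) * s * (b * b) := by rw [e]; group
    _ = s := by rw [ha, hb]; group

theorem kk_of_comm {a b : G} (e : b * a = a * b) : kk a b = 1 := by
  unfold kk
  rw [mul_assoc, ← e]
  group

section rel

open Cfsg.Agent.Hex.Defs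

variable {F K : Type*} [Field F] [Field K] [Algebra F K] {φ : K ≃ₐ[F] K} (hφ : CubicPair φ) [Finite K]
  {x : ZMod 12 → K → G} (g : Gr (φ : K ≃+* K) x t V) {z : ZMod 12 → K → G} (L : Lab (φ : K ≃+* K) x t V z)
  {β : F} {c : K}

/-- the relations over the quadratic ring -/
def QR (hφ : CubicPair φ) (g : Gr (φ : K ≃+* K) x t V) (L : Lab (φ : K ≃+* K) x t V z) (β : F) (c : K) : Prop :=
  QRel (OfPair.cubic hφ) β (fun m => (pos hφ g L).y1 (lab (algebraMap F K β) c m))
    (fun m => (pos hφ g L).y2 (lab β 0 m)) (fun m => (pos hφ g L).y3 (lab (algebraMap F K β) c m))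
    (fun m => (pos hφ g L).y4 (lab β 0 m)) (fun m => (pos hφ g L).y5 (lab (algebraMap F K β) c m))
    (fun m => (pos hφ g L).y6 (lab β 0 m))

theorem f1 (c0 : F) (a : K) : (pos hφ g L).y1 (lab (algebraMap F K β) c (psi β c0 a)) =
    fam x z (algebraMap F K c0) c 1 a := by
  change Y x z 1 (algebraMap F K c0 * a + c * a) a = Y x z 1 ((algebraMap F K c0 + c) * a) a
  rw [add_mul]

theorem f3 (c0 : F) (a : K) : (pos hφ g L).y3 (lab (algebraMap F K β) c (psi β c0 a)) =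
    fam x z (algebraMap F K c0) c 3 a := by
  change Y x z 3 (algebraMap F K c0 * a + c * a) a = Y x z 3 ((algebraMap F K c0 + c) * a) a
  rw [add_mul]

theorem f5 (c0 : F) (a : K) : (pos hφ g L).y5 (lab (algebraMap F K β) c (psi β c0 a)) =
    fam x z (algebraMap F K c0) c 5 a := by
  change Y x z 5 (algebraMap F K c0 * a + c * a) a = Y x z 5 ((algebraMap F K c0 + c) * a) a
  rw [add_mul]

theorem f2 (c : K) (c0 a : F) : (pos hφ g L).y2 (lab β 0 (psiF β c0 a)) =
    fam x z (algebraMap F K c0) c 2 (algebraMap F K a) := by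
  change Y x z 2 (algebraMap F K (c0 * a + 0 * a)) (algebraMap F K a) =
    Y x z 2 (algebraMap F K c0 * algebraMap F K a) (algebraMap F K a)
  rw [zero_mul, add_zero, _root_.map_mul]

theorem f4 (c : K) (c0 a : F) : (pos hφ g L).y4 (lab β 0 (psiF β c0 a)) =
    fam x z (algebraMap F K c0) c 4 (algebraMap F K a) := by
  change Y x z 4 (algebraMap F K (c0 * a + 0 * a)) (algebraMap F K a) =
    Y x z 4 (algebraMap F K c0 * algebraMap F K a) (algebraMap F K a)
  rw [zero_mul, add_zero, _root_.map_mul]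

theorem f6 (c : K) (c0 a : F) : (pos hφ g L).y6 (lab β 0 (psiF β c0 a)) =
    fam x z (algebraMap F K c0) c 6 (algebraMap F K a) := by
  change Y x z 6 (algebraMap F K (c0 * a + 0 * a)) (algebraMap F K a) =
    Y x z 6 (algebraMap F K c0 * algebraMap F K a) (algebraMap F K a)
  rw [zero_mul, add_zero, _root_.map_mul]

theorem cr_coe (a b : K) : (OfPair.cubic hφ).cr a b = crs (φ : K ≃+* K) a b := OfPair.cubic_cr hφ a b

variable {hφ g L} (hQ : QR hφ g L β c) {c0 : F} (hc : c0 * c0 + c0 = β)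

include hQ hc

/-- **The positive relations of a family.** -/
theorem fam_rel : HexRel (φ : K ≃+* K) (fam x z (algebraMap F K c0) c 1) (fam x z (algebraMap F K c0) c 2)
    (fam x z (algebraMap F K c0) c 3) (fam x z (algebraMap F K c0) c 4) (fam x z (algebraMap F K c0) c 5)
    (fam x z (algebraMap F K c0) c 6) := by
  have h0 : (φ : K ≃+* K) (algebraMap F K c0) = algebraMap F K c0 := φ.commutes c0
  have q1 := fun (k : ZMod 12) {a : K} (ha : Ok (φ : K ≃+* K) k a) => fam_sq g L h0 c ha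
  have o1 := fun a : K => ok1 (σ := (φ : K ≃+* K)) a
  have o3 := fun a : K => ok3 (σ := (φ : K ≃+* K)) a
  have o5 := fun a : K => ok5 (σ := (φ : K ≃+* K)) a
  have oF := fun (k : ZMod 12) {a : K} (ha : (φ : K ≃+* K) a = a) => ok_of_fix (σ := (φ : K ≃+* K)) k ha
  have neg : ∀ a : K, -a = a := g.hex.neg_eq
  refine ⟨g.hex.cube, fun a b => fam_add g L h0 c (o1 a) (o1 b),
    fun a b ha hb => fam_add g L h0 c (oF 2 ha) (oF 2 hb), fun a b => fam_add g L h0 c (o3 a) (o3 b),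
    fun a b ha hb => fam_add g L h0 c (oF 4 ha) (oF 4 hb), fun a b => fam_add g L h0 c (o5 a) (o5 b),
    fun a b ha hb => fam_add g L h0 c (oF 6 ha) (oF 6 hb), ?_, ?_, ?_, ?_, ?_, ?_, ?_, ?_, ?_, ?_, ?_, ?_, ?_,
    ?_, ?_⟩
  · intro a u hu
    exact kk_of_comm (g.c1 1 _ (fam_mem g L h0 c (o1 a)) _ (fam_mem g L h0 c (oF 2 hu))).symm
  · intro a b
    have e := hQ.r31 (psi β c0 b) (psi β c0 a)
    simp only [T_psi _ hc, f1, f2 hφ g L c, f3, algebraMap_tr'] at e
    exact kk_of_swap (q1 1 (o1 a)) (q1 3 (o3 b)) e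
  · intro a u hu
    exact kk_of_comm (g.c3 1 _ (fam_mem g L h0 c (o1 a)) _ (fam_mem g L h0 c (oF 4 hu))).symm
  · intro a b
    have e := hQ.r51 (psi β c0 b) (psi β c0 a)
    simp only [sh_psi hc, cr_psi _ hc, T_psi _ hc, f1, f2 hφ g L c, f3, f4 hφ g L c, f5, algebraMap_tr', cr_coe] at e
    rw [neg]
    refine kk_of_swap (q1 1 (o1 a)) (q1 5 (o5 b)) ?_
    refine e.trans ?_
    simp only [mul_assoc]
    rfl
  · intro a u hu
    obtain ⟨u, rfl⟩ := exists_F hφ hu
    have e := hQ.r61 (psiF β c0 u) (psi β c0 a)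
    simp only [pow_two, mul_assoc, sh_psi hc, N_psi _ hc, incl_psiF, psiF_mul (OfPair.cubic hφ) hc,
      psi_mul (OfPair.cubic hφ) hc, f1, f2 hφ g L c, f3, f4 hφ g L c, f5, f6 hφ g L c, algebraMap_nm',
      _root_.map_mul] at e
    simp only [neg]
    refine kk_of_swap (q1 1 (o1 a)) (q1 6 (oF 6 hu)) ?_
    refine e.trans ?_
    simp only [mul_assoc, pow_two]
    rfl
  · intro u a hu
    exact kk_of_comm (g.c1 2 _ (fam_mem g L h0 c (oF 2 hu)) _ (fam_mem g L h0 c (o3 a))).symm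
  · intro u v hu hv
    exact kk_of_comm (g.l2 2 (by decide) _ (fam_mem g L h0 c (oF 2 hu)) _ (fam_mem g L h0 c (oF 4 hv))).symm
  · intro u a hu
    exact kk_of_comm (g.c3 2 _ (fam_mem g L h0 c (oF 2 hu)) _ (fam_mem g L h0 c (o5 a))).symm
  · intro u v hu hv
    obtain ⟨u, rfl⟩ := exists_F hφ hu
    obtain ⟨v, rfl⟩ := exists_F hφ hv
    have e := hQ.r62 (psiF β c0 v) (psiF β c0 u)
    simp only [psiF_mul (OfPair.cubic hφ) hc, f2 hφ g L c, f4 hφ g L c, f6 hφ g L c, _root_.map_mul] at e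
    refine kk_of_swap (q1 2 (oF 2 hu)) (q1 6 (oF 6 hv)) ?_
    rw [mul_comm (algebraMap F K u)]
    exact e
  · intro a u hu
    exact kk_of_comm (g.c1 3 _ (fam_mem g L h0 c (o3 a)) _ (fam_mem g L h0 c (oF 4 hu))).symm
  · intro a b
    have e := hQ.r53 (psi β c0 b) (psi β c0 a)
    simp only [T_psi _ hc, f3, f4 hφ g L c, f5, algebraMap_tr'] at e
    exact kk_of_swap (q1 3 (o3 a)) (q1 5 (o5 b)) e
  · intro a u hu
    exact kk_of_comm (g.c3 3 _ (fam_mem g L h0 c (o3 a)) _ (fam_mem g L h0 c (oF 6 hu))).symm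
  · intro u a hu
    exact kk_of_comm (g.c1 4 _ (fam_mem g L h0 c (oF 4 hu)) _ (fam_mem g L h0 c (o5 a))).symm
  · intro u v hu hv
    exact kk_of_comm (g.l2 4 (by decide) _ (fam_mem g L h0 c (oF 4 hu)) _ (fam_mem g L h0 c (oF 6 hv))).symm
  · intro a u hu
    exact kk_of_comm (g.c1 5 _ (fam_mem g L h0 c (o5 a)) _ (fam_mem g L h0 c (oF 6 hu))).symm

end rel

end Cfsg.Agent.HexEight.SplitA
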