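import Cfsg.Agent.HexEight.SplitA

/-!
# The split case: the two families commute
-/

set_option autoImplicit false
set_option linter.unusedSectionVars false

namespace Cfsg.Agent.HexEight.SplitB

open Cfsg.Agent.StdRank2.Hex Cfsg.Agent.SplitTwo Cfsg.Agent.StdRank2.Hex.HexTwo Cfsg.Agent.HexEight.Def
open Cfsg.Agent.HexEight.Lab Cfsg.Agent.HexEight.ToPos Cfsg.Agent.HexEight.Alg Cfsg.Agent.HexEight.SplitA
open Cfsg.Agent.HexRing.Def Cfsg.Agent.HexRec Cfsg.Agent.Hex.Defs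
open scoped commutatorElement

variable {G : Type*} [Group G] {t : G} {V : ZMod 12 → Subgroup G}
  {F K : Type*} [Field F] [Field K] [Algebra F K] {φ : K ≃ₐ[F] K} {hφ : CubicPair φ} [Finite K]
  {x : ZMod 12 → K → G} {g : Gr (φ : K ≃+* K) x t V} {z : ZMod 12 → K → G} {L : Lab (φ : K ≃+* K) x t V z}
  {β : F} {c : K}

theorem zero_of_add {A : Type*} [AddGroup A] {f : A → G} (h : ∀ a b, f (a + b) = f a * f b) : f 0 = 1 :=
  left_eq_mul.1 (by rw [← h, add_zero] : f 0 = f 0 * f 0)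

/-- the two families commute at `k`, `l` -/
def Cm (φ : K ≃ₐ[F] K) (x z : ZMod 12 → K → G) (c0 : F) (c : K) (k l : ZMod 12) : Prop :=
  ∀ a b, Ok (φ : K ≃+* K) k a → Ok (φ : K ≃+* K) l b →
    Commute (fam x z (algebraMap F K c0) c k a) (fam x z (algebraMap F K (c0 + 1)) c l b)

section

variable (hQ : QR hφ g L β c) {c0 : F} (hc : c0 * c0 + c0 = β)

include hQ

theorem zero2 : (pos hφ g L).y2 (lab β 0 0) = 1 :=
  zero_of_add (f := fun m => (pos hφ g L).y2 (lab β 0 m)) hQ.add2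

theorem zero3 : (pos hφ g L).y3 (lab (algebraMap F K β) c 0) = 1 :=
  zero_of_add (f := fun m => (pos hφ g L).y3 (lab (algebraMap F K β) c m)) hQ.add3

theorem zero4 : (pos hφ g L).y4 (lab β 0 0) = 1 :=
  zero_of_add (f := fun m => (pos hφ g L).y4 (lab β 0 m)) hQ.add4

theorem zero5 : (pos hφ g L).y5 (lab (algebraMap F K β) c 0) = 1 :=
  zero_of_add (f := fun m => (pos hφ g L).y5 (lab (algebraMap F K β) c m)) hQ.add5

include hc

theorem m13 : Cm φ x z c0 c 1 3 := by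
  intro a b _ _
  have e := hQ.r31 (psi β (c0 + 1) b) (psi β c0 a)
  have z2 := zero2 hQ
  simp only [T_psi' _ hc, z2, one_mul, f1, f3] at e
  exact e.symm

theorem m15 : Cm φ x z c0 c 1 5 := by
  intro a b _ _
  have e := hQ.r51 (psi β (c0 + 1) b) (psi β c0 a)
  have z2 := zero2 hQ
  have z3 := zero3 hQ
  have z4 := zero4 hQ
  have hc1 := hc_succ (OfPair.cubic hφ) hc
  simp only [sh_psi hc, sh_psi hc1, cr_psi' _ hc, T_psi' _ hc, z2, z3, z4, one_mul, f1, f5] at e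
  exact e.symm

theorem m16 : Cm φ x z c0 c 1 6 := by
  intro a b _ hb
  obtain ⟨b, rfl⟩ := exists_F hφ (hb (by decide))
  have e := hQ.r61 (psiF β (c0 + 1) b) (psi β c0 a)
  have z2 := zero2 hQ
  have z3 := zero3 hQ
  have z4 := zero4 hQ
  have z5 := zero5 hQ
  have hF : ∀ u v : F, psiF β (c0 + 1) u * psiF β c0 v = 0 := fun u v => by
    rw [mul_comm, psiF_mul' (OfPair.cubic hφ) hc]
  have hK : ∀ u v : K, psi β (c0 + 1) u * psi β c0 v = 0 := fun u v => by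
    rw [mul_comm, psi_mul' (OfPair.cubic hφ) hc]
  simp only [pow_two, mul_assoc, sh_psi hc, N_psi _ hc, incl_psiF, hF, hK, mul_zero, z2, z3, z4, z5, one_mul, f1,
    f6 hφ g L c] at e
  exact e.symm

theorem m26 : Cm φ x z c0 c 2 6 := by
  intro a b ha hb
  obtain ⟨a, rfl⟩ := exists_F hφ (ha (by decide))
  obtain ⟨b, rfl⟩ := exists_F hφ (hb (by decide))
  have e := hQ.r62 (psiF β (c0 + 1) b) (psiF β c0 a)
  have z4 := zero4 hQ
  have hF : ∀ u v : F, psiF β (c0 + 1) u * psiF β c0 v = 0 := fun u v => by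
    rw [mul_comm, psiF_mul' (OfPair.cubic hφ) hc]
  simp only [hF, z4, one_mul, f2 hφ g L c, f6 hφ g L c] at e
  exact e.symm

theorem m35 : Cm φ x z c0 c 3 5 := by
  intro a b _ _
  have e := hQ.r53 (psi β (c0 + 1) b) (psi β c0 a)
  have z4 := zero4 hQ
  simp only [T_psi' _ hc, z4, one_mul, f3, f5] at e
  exact e.symm

end

section

variable (g L) (hQ : QR hφ g L β c) {c0 : F} (hc : c0 * c0 + c0 = β)

include g L

theorem Cm_self (c0 : F) (k : ZMod 12) : Cm φ x z c0 c k k := fun _ _ ha hb =>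
  comm_V g (fam_mem g L (φ.commutes c0) c ha) (fam_mem g L (φ.commutes (c0 + 1)) c hb)

theorem Cm_c1 (c0 : F) (k : ZMod 12) : Cm φ x z c0 c k (k + 1) := fun _ _ ha hb =>
  g.c1 k _ (fam_mem g L (φ.commutes c0) c ha) _ (fam_mem g L (φ.commutes (c0 + 1)) c hb)

theorem Cm_c3 (c0 : F) (k : ZMod 12) : Cm φ x z c0 c k (k + 3) := fun _ _ ha hb =>
  g.c3 k _ (fam_mem g L (φ.commutes c0) c ha) _ (fam_mem g L (φ.commutes (c0 + 1)) c hb)

theorem Cm_l2 (c0 : F) (k : ZMod 12) (hk : k.val % 2 = 0) : Cm φ x z c0 c k (k + 2) := fun _ _ ha hb =>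
  g.l2 k hk _ (fam_mem g L (φ.commutes c0) c ha) _ (fam_mem g L (φ.commutes (c0 + 1)) c hb)

include hQ hc

theorem Cm_symm {k l : ZMod 12} (h : Cm φ x z (c0 + 1) c l k) : Cm φ x z c0 c k l := by
  intro a b ha hb
  have := h b a hb ha
  rw [succ_succ (OfPair.cubic hφ)] at this
  exact this.symm

theorem Cm_refl (c' : ZMod 12) {k l : ZMod 12} (h : Cm φ x z c0 c k l) :
    Cm φ x z c0 c (2 * c' + 6 - k) (2 * c' + 6 - l) := by
  intro a b ha hb
  have ha' : Ok (φ : K ≃+* K) k a := ha.congr (val_refl c' k).symm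
  have hb' : Ok (φ : K ≃+* K) l b := hb.congr (val_refl c' l).symm
  rw [← fam_refl g L (φ.commutes c0) c c' ha', ← fam_refl g L (φ.commutes (c0 + 1)) c c' hb']
  have e := (h a b ha' hb').eq
  show _ * _ = _ * _
  generalize fam x z (algebraMap F K c0) c k a = u at *
  generalize fam x z (algebraMap F K (c0 + 1)) c l b = v at *
  calc nn x c' * u * (nn x c')⁻¹ * (nn x c' * v * (nn x c')⁻¹) = nn x c' * (u * v) * (nn x c')⁻¹ := by group
    _ = _ := by rw [e]; group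

theorem Cm_rot (m : ZMod 12) {k l : ZMod 12} (h : Cm φ x z c0 c k l) : Cm φ x z c0 c (k + 2 * m) (l + 2 * m) := by
  have h1 := Cm_refl g L hQ hc m (Cm_refl g L hQ hc 0 h)
  rw [show 2 * m + 6 - (2 * 0 + 6 - k) = k + 2 * m by ring, show 2 * m + 6 - (2 * 0 + 6 - l) = l + 2 * m by ring] at h1
  exact h1

omit [Finite K] hQ hc g L in
theorem pairs : ∀ k l : ZMod 12, (1 ≤ k.val ∧ k.val ≤ 6) → (1 ≤ l.val ∧ l.val ≤ 6) → k.val < l.val →
    (k = 1 ∧ l = 3) ∨ (k = 1 ∧ l = 5) ∨ (k = 1 ∧ l = 6) ∨ (k = 2 ∧ l = 6) ∨ (k = 3 ∧ l = 5) ∨ l = k + 1 ∨ l = k + 3 ∨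
      (k.val % 2 = 0 ∧ l = k + 2) := by
  decide

theorem Cm_lt {k l : ZMod 12} (hk : 1 ≤ k.val ∧ k.val ≤ 6) (hl : 1 ≤ l.val ∧ l.val ≤ 6) (hkl : k.val < l.val) :
    Cm φ x z c0 c k l := by
  rcases pairs k l hk hl hkl with ⟨rfl, rfl⟩ | ⟨rfl, rfl⟩ | ⟨rfl, rfl⟩ | ⟨rfl, rfl⟩ | ⟨rfl, rfl⟩ | rfl | rfl | ⟨h, rfl⟩
  · exact m13 hQ hc
  · exact m15 hQ hc
  · exact m16 hQ hc
  · exact m26 hQ hc
  · exact m35 hQ hc
  · exact Cm_c1 g L c0 k
  · exact Cm_c3 g L c0 k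
  · exact Cm_l2 g L c0 k h

theorem Cm_pos {k l : ZMod 12} (hk : 1 ≤ k.val ∧ k.val ≤ 6) (hl : 1 ≤ l.val ∧ l.val ≤ 6) :
    Cm φ x z c0 c k l := by
  rcases lt_trichotomy k.val l.val with h | h | h
  · exact Cm_lt g L hQ hc hk hl h
  · have : k = l := ZMod.val_injective 12 h
    subst this
    exact Cm_self g L c0 k
  · exact Cm_symm g L hQ hc (Cm_lt g L hQ (hc_succ (OfPair.cubic hφ) hc) hl hk h)

omit [Finite K] hQ hc g L in
theorem move : ∀ k l : ZMod 12, l ≠ k + 6 →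
    (∃ m : ZMod 12, (1 ≤ (2 * m + 6 - k).val ∧ (2 * m + 6 - k).val ≤ 6) ∧
      (1 ≤ (2 * m + 6 - l).val ∧ (2 * m + 6 - l).val ≤ 6)) ∨
    ∃ m : ZMod 12, (1 ≤ (k + 2 * m).val ∧ (k + 2 * m).val ≤ 6) ∧ (1 ≤ (l + 2 * m).val ∧ (l + 2 * m).val ≤ 6) := by
  decide +kernel

theorem Cm_ne {k l : ZMod 12} (h : l ≠ k + 6) : Cm φ x z c0 c k l := by
  rcases move k l h with ⟨m, h1, h2⟩ | ⟨m, h1, h2⟩
  · have := Cm_refl g L hQ hc m (Cm_pos g L hQ hc h1 h2)
    rwa [show 2 * m + 6 - (2 * m + 6 - k) = k by ring, show 2 * m + 6 - (2 * m + 6 - l) = l by ring] at this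
  · have := Cm_rot g L hQ hc (-m) (Cm_pos g L hQ hc h1 h2)
    rwa [show k + 2 * m + 2 * -m = k by ring, show l + 2 * m + 2 * -m = l by ring] at this

/-- opposite short roots -/
theorem Cm_17 : Cm φ x z c0 c 1 7 := by
  intro a b ha _
  have hc1 := hc_succ (OfPair.cubic hφ) hc
  have h1 : (φ : K ≃+* K) (algebraMap F K (c0 + 1)) = algebraMap F K (c0 + 1) := φ.commutes _
  -- the relation `[y1, y6]` rotated by two
  have R := (fam_rel hQ hc1).c16 b 1 (map_one _)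
  have rot : ∀ (k : ZMod 12) {a : K}, Ok (φ : K ≃+* K) k a →
      rho x * fam x z (algebraMap F K (c0 + 1)) c k a * (rho x)⁻¹ = fam x z (algebraMap F K (c0 + 1)) c (k + 2) a := by
    intro k a ha
    have e : rho x * fam x z (algebraMap F K (c0 + 1)) c k a * (rho x)⁻¹ =
        nn x 1 * (nn x 6 * fam x z (algebraMap F K (c0 + 1)) c k a * (nn x 6)⁻¹) * (nn x 1)⁻¹ := by
      unfold rho
      group
    rw [e, fam_refl g L h1 c 6 ha, fam_refl g L h1 c 1 (ha.congr (val_refl 6 k))]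
    congr 1
    rw [show (2 : ZMod 12) * 1 + 6 - (2 * 6 + 6 - k) = k + 2 - 12 by ring, twelve_eq, sub_zero]
  have hn : Ok (φ : K ≃+* K) 2 (-(1 * nrm (φ : K ≃+* K) b)) := fun _ => by
    rw [map_neg, one_mul, nrm_fix g.hex.cube]
  have hn4 : Ok (φ : K ≃+* K) 4 (1 ^ 2 * nrm (φ : K ≃+* K) b) := fun _ => by
    rw [one_pow, one_mul, nrm_fix g.hex.cube]
  set f := fam x z (algebraMap F K (c0 + 1)) c with hf
  have e1 : rho x * kk (f 1 b) (f 6 1) * (rho x)⁻¹ = kk (f 3 b) (f 8 1) := by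
    rw [show f 3 b = f (1 + 2) b from rfl, show f 8 1 = f (6 + 2) 1 from rfl, ← rot 1 (ok1 b), ← rot 6 (ok_one _ 6)]
    unfold kk
    group
  have e2 : kk (f 3 b) (f 8 1) = f 4 (-(1 * nrm (φ : K ≃+* K) b)) * f 5 (1 * shp (φ : K ≃+* K) b) *
      f 6 (1 ^ 2 * nrm (φ : K ≃+* K) b) * f 7 (-(1 * b)) := by
    have r2 := rot 2 hn
    have r3 := rot 3 (ok3 (1 * shp (φ : K ≃+* K) b))
    have r4 := rot 4 hn4
    have r5 := rot 5 (ok5 (-(1 * b)))
    rw [show (2 : ZMod 12) + 2 = 4 from by decide] at r2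
    rw [show (3 : ZMod 12) + 2 = 5 from by decide] at r3
    rw [show (4 : ZMod 12) + 2 = 6 from by decide] at r4
    rw [show (5 : ZMod 12) + 2 = 7 from by decide] at r5
    rw [← e1, R, ← r2, ← r3, ← r4, ← r5]
    group
  have e3 : f 7 b = (f 4 (-(1 * nrm (φ : K ≃+* K) b)) * f 5 (1 * shp (φ : K ≃+* K) b) *
      f 6 (1 ^ 2 * nrm (φ : K ≃+* K) b))⁻¹ * kk (f 3 b) (f 8 1) := by
    rw [e2, show -(1 * b) = b by rw [one_mul]; exact g.hex.neg_eq b]
    group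
  have hcm : ∀ (l : ZMod 12) (b : K), l ≠ 1 + 6 → Ok (φ : K ≃+* K) l b →
      Commute (fam x z (algebraMap F K c0) c 1 a) (f l b) := fun l b hl hb => Cm_ne g L hQ hc hl a b ha hb
  have c3 := hcm 3 b (by decide) (ok3 b)
  have c8 := hcm 8 1 (by decide) (ok_one _ 8)
  have c4 := hcm 4 _ (by decide) (show Ok (φ : K ≃+* K) 4 (-(1 * nrm (φ : K ≃+* K) b)) from hn.congr (by decide))
  have c5 := hcm 5 _ (by decide) (ok5 (1 * shp (φ : K ≃+* K) b))
  have c6 := hcm 6 _ (by decide) (show Ok (φ : K ≃+* K) 6 (1 ^ 2 * nrm (φ : K ≃+* K) b) from hn4.congr (by decide))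
  rw [e3]
  unfold kk
  exact (((c4.mul_right c5).mul_right c6).inv_right).mul_right
    ((((c3.inv_right).mul_right c8.inv_right).mul_right c3).mul_right c8)

/-- opposite long roots -/
theorem Cm_60 : Cm φ x z c0 c 6 0 := by
  intro a b ha hb
  have hc1 := hc_succ (OfPair.cubic hφ) hc
  have h1 : (φ : K ≃+* K) (algebraMap F K (c0 + 1)) = algebraMap F K (c0 + 1) := φ.commutes _
  have hb' : (φ : K ≃+* K) b = b := hb (by decide)
  have R := (fam_rel hQ hc1).c26 b 1 hb' (map_one _)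
  -- reflect by `nn 5`: `k ↦ 4 - k`: `2, 6, 4 ↦ 2, 10, 0`
  have rf : ∀ (k : ZMod 12) {a : K}, Ok (φ : K ≃+* K) k a →
      nn x 5 * fam x z (algebraMap F K (c0 + 1)) c k a * (nn x 5)⁻¹ =
        fam x z (algebraMap F K (c0 + 1)) c (2 * 5 + 6 - k) a := fun k a ha => fam_refl g L h1 c 5 ha
  set f := fam x z (algebraMap F K (c0 + 1)) c with hf
  have e1 : nn x 5 * kk (f 2 b) (f 6 1) * (nn x 5)⁻¹ = kk (f 2 b) (f 10 1) := by
    have r2 := rf 2 (ok_of_fix (σ := (φ : K ≃+* K)) 2 hb')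
    have r6 := rf 6 (ok_one (φ : K ≃+* K) 6)
    rw [show (2 : ZMod 12) * 5 + 6 - 2 = 2 from by decide] at r2
    rw [show (2 : ZMod 12) * 5 + 6 - 6 = 10 from by decide] at r6
    nth_rewrite 2 [← r2]
    rw [← r6]
    unfold kk
    group
  have e2 : f 0 b = kk (f 2 b) (f 10 1) := by
    have r4 := rf 4 (ok_of_fix (σ := (φ : K ≃+* K)) 4 hb')
    rw [show (2 : ZMod 12) * 5 + 6 - 4 = 0 from by decide] at r4
    rw [← e1, R, mul_one, r4]
  have hcm : ∀ (l : ZMod 12) (b : K), l ≠ 6 + 6 → Ok (φ : K ≃+* K) l b →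
      Commute (fam x z (algebraMap F K c0) c 6 a) (f l b) := fun l b hl hb => Cm_ne g L hQ hc hl a b ha hb
  have c2 := hcm 2 b (by decide) (ok_of_fix _ hb')
  have c10 := hcm 10 1 (by decide) (ok_one _ 10)
  rw [e2]
  unfold kk
  exact (((c2.inv_right).mul_right c10.inv_right).mul_right c2).mul_right c10

omit [Finite K] hQ hc g L in
theorem opp_aux : ∀ k : ZMod 12, ∃ m : ZMod 12, (k = 1 + 2 * m ∧ k + 6 = 7 + 2 * m) ∨ (k = 6 + 2 * m ∧ k + 6 = 0 + 2 * m) := by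
  decide

/-- **The two families commute.** -/
theorem Cm_all (k l : ZMod 12) : Cm φ x z c0 c k l := by
  by_cases h : l = k + 6
  · subst h
    obtain ⟨m, ⟨h1, h2⟩ | ⟨h1, h2⟩⟩ := opp_aux k
    · have := Cm_rot g L hQ hc m (Cm_17 g L hQ hc)
      rwa [← h1, ← h2] at this
    · have := Cm_rot g L hQ hc m (Cm_60 g L hQ hc)
      rwa [← h1, ← h2] at this
  · exact Cm_ne g L hQ hc h

end

end Cfsg.Agent.HexEight.SplitB
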