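import Cfsg.Agent.HexEight.SplitB
import Cfsg.Agent.HexRec.Model

/-!
# The split case: each family is a hexagonal root system `HexTwo`
-/

set_option autoImplicit false
set_option linter.unusedSectionVars false

namespace Cfsg.Agent.HexEight.SplitC

open Cfsg.Agent.StdRank2.Hex Cfsg.Agent.SplitTwo Cfsg.Agent.StdRank2.Hex.HexTwo Cfsg.Agent.HexEight.Def
open Cfsg.Agent.HexEight.Lab Cfsg.Agent.HexEight.ToPos Cfsg.Agent.HexEight.Alg Cfsg.Agent.HexEight.SplitA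
open Cfsg.Agent.HexEight.SplitB
open Cfsg.Agent.HexRing.Def Cfsg.Agent.HexRec Cfsg.Agent.Hex.Defs
open scoped commutatorElement

theorem comm_closure {G : Type*} [Group G] {S T : Set G} (h : ∀ a ∈ S, ∀ b ∈ T, Commute a b) {a b : G}
    (ha : a ∈ Subgroup.closure S) (hb : b ∈ Subgroup.closure T) : Commute a b := by
  have h1 : Subgroup.closure S ≤ Subgroup.centralizer T := by
    rw [Subgroup.closure_le]
    intro a ha
    rw [SetLike.mem_coe, Subgroup.mem_centralizer_iff]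
    exact fun b hb => (h a ha b hb).symm.eq
  have h2 : Subgroup.closure T ≤ Subgroup.centralizer (Subgroup.closure S : Set G) := by
    rw [Subgroup.closure_le]
    intro b hb
    rw [SetLike.mem_coe, Subgroup.mem_centralizer_iff]
    intro a ha
    exact ((Subgroup.mem_centralizer_iff.1 (h1 ha)) b hb).symm
  exact (Subgroup.mem_centralizer_iff.1 (h2 hb)) a ha

theorem prod3 {G : Type*} [Group G] {a a' b b' : G} (h1 : Commute a' b) (h2 : Commute b' a) (h3 : Commute a' a) :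
    a * a' * (b * b') * (a * a') = (a * b * a) * (a' * b' * a') := by
  calc a * a' * (b * b') * (a * a') = a * (a' * b) * (b' * a) * a' := by group
    _ = a * b * (a' * a) * b' * a' := by rw [h1.eq, h2.eq]; group
    _ = _ := by rw [h3.eq]; group

theorem prod2 {G : Type*} [Group G] {a a' b b' : G} (h1 : Commute a' b) :
    a * a' * (b * b') = (a * b) * (a' * b') := by
  calc a * a' * (b * b') = a * (a' * b) * b' := by group
    _ = _ := by rw [h1.eq]; group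

variable {G : Type*} [Group G] {t : G} {V : ZMod 12 → Subgroup G}
  {F K : Type*} [Field F] [Field K] [Algebra F K] {φ : K ≃ₐ[F] K} {hφ : CubicPair φ} [Finite K]
  {x : ZMod 12 → K → G} (g : Gr (φ : K ≃+* K) x t V) {z : ZMod 12 → K → G} (L : Lab (φ : K ≃+* K) x t V z)
  {β : F} {c : K} (hQ : QR hφ g L β c) {c0 : F} (hc : c0 * c0 + c0 = β)

include g L hQ hc

/-- the first family -/
local notation "f₁" => fam x z (algebraMap F K c0) c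
/-- the second family -/
local notation "f₂" => fam x z (algebraMap F K (c0 + 1)) c

theorem x_eq {k : ZMod 12} {a : K} (ha : Ok (φ : K ≃+* K) k a) : x k a = f₁ k a * f₂ k a := by
  rw [← fam_mul g L (φ.commutes c0) c ha, map_add, map_one]

theorem nt_eq {k : ZMod 12} {s : K} (hs : Ok (φ : K ≃+* K) k s) : nt x k s = nt f₁ k s * nt f₂ k s := by
  have hs' : Ok (φ : K ≃+* K) (k + 6) s⁻¹ := hs.inv.congr (val_add_6 k)
  unfold nt
  rw [x_eq g L hQ hc hs, x_eq g L hQ hc hs']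
  exact prod3 (Cm_all g L hQ hc _ _ _ _ hs' hs).symm (Cm_all g L hQ hc _ _ _ _ hs hs').symm
    (Cm_all g L hQ hc _ _ _ _ hs hs).symm

theorem nn_eq (k : ZMod 12) : nn x k = nn f₁ k * nn f₂ k := by
  rw [← nt_one, ← nt_one, ← nt_one]
  exact nt_eq g L hQ hc (ok_one _ k)

theorem comm_nt {k l : ZMod 12} {s a : K} (hs : Ok (φ : K ≃+* K) k s) (ha : Ok (φ : K ≃+* K) l a) :
    Commute (nt f₂ k s) (f₁ l a) := by
  have hs' : Ok (φ : K ≃+* K) (k + 6) s⁻¹ := hs.inv.congr (val_add_6 k)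
  have h1 := (Cm_all g L hQ hc l k a s ha hs).symm
  have h2 := (Cm_all g L hQ hc l (k + 6) a s⁻¹ ha hs').symm
  unfold nt
  exact (h1.mul_left h2).mul_left h1

theorem comm_nn (k : ZMod 12) {l : ZMod 12} {a : K} (ha : Ok (φ : K ≃+* K) l a) :
    Commute (nn f₂ k) (f₁ l a) := by
  rw [← nt_one]
  exact comm_nt g L hQ hc (ok_one _ k) ha

theorem comm_nt_nn {k l : ZMod 12} {s : K} (hs : Ok (φ : K ≃+* K) k s) :
    Commute (nt f₂ k s) (nn f₁ l) := by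
  unfold nn
  exact ((comm_nt g L hQ hc hs (ok_one _ l)).mul_right (comm_nt g L hQ hc hs (ok_one _ _))).mul_right
    (comm_nt g L hQ hc hs (ok_one _ l))

theorem hh_eq {k : ZMod 12} {s : K} (hs : Ok (φ : K ≃+* K) k s) : hh x k s = hh f₁ k s * hh f₂ k s := by
  unfold hh
  rw [nt_eq g L hQ hc hs, nn_eq g L hQ hc k]
  exact prod2 (comm_nt_nn g L hQ hc hs)

theorem comm_hh {k l : ZMod 12} {s a : K} (hs : Ok (φ : K ≃+* K) k s) (ha : Ok (φ : K ≃+* K) l a) :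
    Commute (hh f₂ k s) (f₁ l a) := by
  unfold hh
  exact (comm_nt g L hQ hc hs ha).mul_left (comm_nn g L hQ hc k ha)

omit g L hQ hc [Finite K] in
theorem conj_mul_comm {u v y : G} (h : Commute v y) : u * v * y * (u * v)⁻¹ = u * y * u⁻¹ := by
  calc u * v * y * (u * v)⁻¹ = u * (v * y) * v⁻¹ * u⁻¹ := by group
    _ = _ := by rw [h.eq]; group

theorem refl_fam (k : ZMod 12) {j : ZMod 12} {a : K} (ha : Ok (φ : K ≃+* K) j a) :
    nn f₁ k * f₁ j a * (nn f₁ k)⁻¹ = f₁ (2 * k + 6 - j) a := by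
  rw [← fam_refl g L (φ.commutes c0) c k ha, nn_eq g L hQ hc k, conj_mul_comm (comm_nn g L hQ hc k ha)]

/-! ### `U ∩ U⁻ = 1` -/

theorem comm_gen {S T : Set (ZMod 12)} {u v : G}
    (hu : u ∈ Subgroup.closure {y : G | ∃ k ∈ S, ∃ a, Ok (φ : K ≃+* K) k a ∧ y = f₁ k a})
    (hv : v ∈ Subgroup.closure {y : G | ∃ k ∈ T, ∃ a, Ok (φ : K ≃+* K) k a ∧ y = f₂ k a}) : Commute u v := by
  refine comm_closure ?_ hu hv
  rintro _ ⟨k, _, a, ha, rfl⟩ _ ⟨l, _, b, hb, rfl⟩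
  exact Cm_all g L hQ hc k l a b ha hb

theorem t_gen {S : Set (ZMod 12)} {u : G}
    (hu : u ∈ Subgroup.closure {y : G | ∃ k ∈ S, ∃ a, Ok (φ : K ≃+* K) k a ∧ y = f₁ k a}) :
    t * u * t⁻¹ ∈ Subgroup.closure {y : G | ∃ k ∈ S, ∃ a, Ok (φ : K ≃+* K) k a ∧ y = f₂ k a} := by
  induction hu using Subgroup.closure_induction with
  | mem y hy =>
    obtain ⟨k, hk, a, ha, rfl⟩ := hy
    refine Subgroup.subset_closure ⟨k, hk, a, ha, ?_⟩
    rw [fam_t g L (φ.commutes c0) c ha, map_add, map_one]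
  | one => simp
  | mul u v _ _ hu hv =>
    have e : t * (u * v) * t⁻¹ = (t * u * t⁻¹) * (t * v * t⁻¹) := by group
    rw [e]
    exact mul_mem hu hv
  | inv u _ hu =>
    have e : t * u⁻¹ * t⁻¹ = (t * u * t⁻¹)⁻¹ := by group
    rw [e]
    exact inv_mem hu

theorem D_mem {S : Set (ZMod 12)} {u : G}
    (hu : u ∈ Subgroup.closure {y : G | ∃ k ∈ S, ∃ a, Ok (φ : K ≃+* K) k a ∧ y = f₁ k a}) :
    u * (t * u * t⁻¹) ∈ Subgroup.closure {y : G | ∃ k ∈ S, ∃ a, Ok (φ : K ≃+* K) k a ∧ y = x k a} := by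
  induction hu using Subgroup.closure_induction with
  | mem y hy =>
    obtain ⟨k, hk, a, ha, rfl⟩ := hy
    refine Subgroup.subset_closure ⟨k, hk, a, ha, ?_⟩
    rw [fam_t g L (φ.commutes c0) c ha, fam_mul g L (φ.commutes c0) c ha]
  | one => simp
  | mul u v hu' hv' hu hv =>
    have e : u * v * (t * (u * v) * t⁻¹) = (u * (t * u * t⁻¹)) * (v * (t * v * t⁻¹)) := by
      have h1 := (comm_gen g L hQ hc hv' (t_gen g L hQ hc hu')).eq
      calc u * v * (t * (u * v) * t⁻¹) = u * (v * (t * u * t⁻¹)) * (t * v * t⁻¹) := by group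
        _ = _ := by rw [h1]; group
    rw [e]
    exact mul_mem hu hv
  | inv u hu' hu =>
    have e : u⁻¹ * (t * u⁻¹ * t⁻¹) = (u * (t * u * t⁻¹))⁻¹ := by
      have h1 := (comm_gen g L hQ hc hu' (t_gen g L hQ hc hu')).eq
      rw [h1]
      group
    rw [e]
    exact inv_mem hu

/-- product form -/
theorem exists_prod [Finite G] {u : G}
    (hu : u ∈ Subgroup.closure {y : G | ∃ k ∈ ({1, 2, 3, 4, 5, 6} : Set (ZMod 12)), ∃ a, Ok (φ : K ≃+* K) k a ∧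
      y = f₁ k a}) : ∃ a1 a2 a3 a4 a5 a6, Ok (φ : K ≃+* K) 2 a2 ∧ Ok (φ : K ≃+* K) 4 a4 ∧ Ok (φ : K ≃+* K) 6 a6 ∧
      u = f₁ 1 a1 * (f₁ 2 a2 * (f₁ 3 a3 * (f₁ 4 a4 * (f₁ 5 a5 * f₁ 6 a6)))) := by
  have H := OfHexRel.posRel_of_hexRel hφ (fam_rel hQ hc)
  have z : ∀ k, f₁ k 0 = 1 := fun k => fam_zero g L (φ.commutes c0) c k
  have hle : Subgroup.closure {y : G | ∃ k ∈ ({1, 2, 3, 4, 5, 6} : Set (ZMod 12)), ∃ a, Ok (φ : K ≃+* K) k a ∧
      y = f₁ k a} ≤ Model.R H := by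
    rw [Subgroup.closure_le]
    rintro _ ⟨k, hk, a, ha, rfl⟩
    rcases hk with rfl | rfl | rfl | rfl | rfl | rfl
    · exact ⟨⟨a, 0, 0, 0, 0, 0⟩, by simp [OfHexRel.PosRel.pm, z]⟩
    · obtain ⟨a, rfl⟩ := exists_F hφ (ha (by decide))
      exact ⟨⟨0, a, 0, 0, 0, 0⟩, by simp [OfHexRel.PosRel.pm, z]⟩
    · exact ⟨⟨0, 0, a, 0, 0, 0⟩, by simp [OfHexRel.PosRel.pm, z]⟩
    · obtain ⟨a, rfl⟩ := exists_F hφ (ha (by decide))
      exact ⟨⟨0, 0, 0, a, 0, 0⟩, by simp [OfHexRel.PosRel.pm, z]⟩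
    · exact ⟨⟨0, 0, 0, 0, a, 0⟩, by simp [OfHexRel.PosRel.pm, z]⟩
    · obtain ⟨a, rfl⟩ := exists_F hφ (ha (by decide))
      exact ⟨⟨0, 0, 0, 0, 0, a⟩, by simp [OfHexRel.PosRel.pm, z]⟩
  obtain ⟨a, rfl⟩ := hle hu
  exact ⟨a.a1, algebraMap F K a.a2, a.a3, algebraMap F K a.a4, a.a5, algebraMap F K a.a6, okF _ _, okF _ _, okF _ _,
    rfl⟩

theorem opp_fam [Finite G] {u : G}
    (h1 : u ∈ Subgroup.closure {y : G | ∃ k ∈ ({1, 2, 3, 4, 5, 6} : Set (ZMod 12)), ∃ a, Ok (φ : K ≃+* K) k a ∧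
      y = f₁ k a})
    (h2 : u ∈ Subgroup.closure {y : G | ∃ k ∈ ({7, 8, 9, 10, 11, 0} : Set (ZMod 12)), ∃ a, Ok (φ : K ≃+* K) k a ∧
      y = f₁ k a}) : u = 1 := by
  have hD := g.hex.opp _ (D_mem g L hQ hc h1) (D_mem g L hQ hc h2)
  obtain ⟨a1, a2, a3, a4, a5, a6, o2, o4, o6, rfl⟩ := exists_prod g L hQ hc h1
  have o1 := ok1 (σ := (φ : K ≃+* K)) a1
  have o3 := ok3 (σ := (φ : K ≃+* K)) a3
  have o5 := ok5 (σ := (φ : K ≃+* K)) a5
  have ft : ∀ {k : ZMod 12} {a : K}, Ok (φ : K ≃+* K) k a → t * f₁ k a * t⁻¹ = f₂ k a := fun ha => by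
    rw [fam_t g L (φ.commutes c0) c ha, map_add, map_one]
  have e1 : t * (f₁ 1 a1 * (f₁ 2 a2 * (f₁ 3 a3 * (f₁ 4 a4 * (f₁ 5 a5 * f₁ 6 a6))))) * t⁻¹ =
      f₂ 1 a1 * (f₂ 2 a2 * (f₂ 3 a3 * (f₂ 4 a4 * (f₂ 5 a5 * f₂ 6 a6)))) := by
    rw [← ft o1, ← ft o2, ← ft o3, ← ft o4, ← ft o5, ← ft o6]
    group
  rw [e1] at hD
  have C := fun (k l : ZMod 12) {a b : K} (ha : Ok (φ : K ≃+* K) k a) (hb : Ok (φ : K ≃+* K) l b) =>
    Cm_all g L hQ hc k l a b ha hb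
  have p5 : f₁ 5 a5 * f₁ 6 a6 * (f₂ 5 a5 * f₂ 6 a6) = x 5 a5 * x 6 a6 := by
    rw [prod2 (C 6 5 o6 o5), ← x_eq g L hQ hc o5, ← x_eq g L hQ hc o6]
  have p4 : f₁ 4 a4 * (f₁ 5 a5 * f₁ 6 a6) * (f₂ 4 a4 * (f₂ 5 a5 * f₂ 6 a6)) = x 4 a4 * (x 5 a5 * x 6 a6) := by
    rw [prod2 ((C 5 4 o5 o4).mul_left (C 6 4 o6 o4)), p5, ← x_eq g L hQ hc o4]
  have p3 : f₁ 3 a3 * (f₁ 4 a4 * (f₁ 5 a5 * f₁ 6 a6)) * (f₂ 3 a3 * (f₂ 4 a4 * (f₂ 5 a5 * f₂ 6 a6))) =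
      x 3 a3 * (x 4 a4 * (x 5 a5 * x 6 a6)) := by
    rw [prod2 ((C 4 3 o4 o3).mul_left ((C 5 3 o5 o3).mul_left (C 6 3 o6 o3))), p4, ← x_eq g L hQ hc o3]
  have p2 : f₁ 2 a2 * (f₁ 3 a3 * (f₁ 4 a4 * (f₁ 5 a5 * f₁ 6 a6))) *
      (f₂ 2 a2 * (f₂ 3 a3 * (f₂ 4 a4 * (f₂ 5 a5 * f₂ 6 a6)))) = x 2 a2 * (x 3 a3 * (x 4 a4 * (x 5 a5 * x 6 a6))) := by
    rw [prod2 ((C 3 2 o3 o2).mul_left ((C 4 2 o4 o2).mul_left ((C 5 2 o5 o2).mul_left (C 6 2 o6 o2)))), p3,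
      ← x_eq g L hQ hc o2]
  rw [prod2 ((C 2 1 o2 o1).mul_left ((C 3 1 o3 o1).mul_left ((C 4 1 o4 o1).mul_left ((C 5 1 o5 o1).mul_left
    (C 6 1 o6 o1))))), p2, ← x_eq g L hQ hc o1] at hD
  obtain ⟨q1, q2, q3, q4, q5, q6⟩ := g.nf _ (g.le 1 _ o1) _ (g.le 2 _ o2) _ (g.le 3 _ o3) _ (g.le 4 _ o4)
    _ (g.le 5 _ o5) _ (g.le 6 _ o6) 1 (one_mem _) 1 (one_mem _) 1 (one_mem _) 1 (one_mem _) 1 (one_mem _) 1
    (one_mem _) (by simpa only [mul_assoc, mul_one] using hD)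
  rw [(g.hex.x_eq_one o1).1 q1, (g.hex.x_eq_one o2).1 q2, (g.hex.x_eq_one o3).1 q3, (g.hex.x_eq_one o4).1 q4,
    (g.hex.x_eq_one o5).1 q5, (g.hex.x_eq_one o6).1 q6]
  simp only [fam_zero g L (φ.commutes c0) c, mul_one]

/-- **Each family is a hexagonal root system.** -/
theorem hexTwo_fam [Finite G] : HexTwo (φ : K ≃+* K) f₁ where
  two := hφ.two
  rel := fam_rel hQ hc
  add k a b ha hb := fam_add g L (φ.commutes c0) c ha hb
  inj k a ha e := fam_eq_one g L (φ.commutes c0) c ha e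
  refl1 j a ha := by
    rw [refl_fam g L hQ hc 1 ha]
    congr 1
  refl6 j a ha := by
    rw [refl_fam g L hQ hc 6 ha]
    congr 1
  tor1 s hs j a ha := by
    rw [← fam_tor1 g L (φ.commutes c0) c hs ha, hh_eq g L hQ hc (ok1 s), conj_mul_comm (comm_hh g L hQ hc (ok1 s) ha)]
  tor6 s hs hs' j a ha := by
    have hs6 : Ok (φ : K ≃+* K) 6 s := ok_of_fix _ hs'
    rw [← fam_tor6 g L (φ.commutes c0) c hs hs' ha, hh_eq g L hQ hc hs6, conj_mul_comm (comm_hh g L hQ hc hs6 ha)]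
  opp u h1 h2 := opp_fam g L hQ hc h1 h2

end Cfsg.Agent.HexEight.SplitC
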