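import Cfsg.Agent.HexEight.Lab
import Cfsg.Agent.HexRing.Def

/-!
# From labels to the input `HexRing.Def.Pos` of the ring part

`FF σ` = fixed field of `σ` in `E`, `φ σ` = `σ` as an `FF σ`-automorphism, `cub` = the cubic datum.
-/

set_option autoImplicit false
set_option linter.unusedSectionVars false

namespace Cfsg.Agent.HexEight.ToPos

open Cfsg.Agent.StdRank2.Hex Cfsg.Agent.SplitTwo Cfsg.Agent.StdRank2.Hex.HexTwo Cfsg.Agent.HexEight.Def
open Cfsg.Agent.HexEight.Lab Cfsg.Agent.Hex.Defs Cfsg.Agent.HexRec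
open scoped commutatorElement

section field

variable {E : Type*} [Field E] (σ : E ≃+* E)

/-- the fixed field -/
def FF : Subfield E where
  carrier := {a | σ a = a}
  one_mem' := map_one σ
  zero_mem' := map_zero σ
  add_mem' {a b} ha hb := by
    change σ (a + b) = a + b
    rw [map_add, show σ a = a from ha, show σ b = b from hb]
  mul_mem' {a b} ha hb := by
    change σ (a * b) = a * b
    rw [map_mul, show σ a = a from ha, show σ b = b from hb]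
  neg_mem' {a} ha := by
    change σ (-a) = -a
    rw [map_neg, show σ a = a from ha]
  inv_mem' a ha := by
    change σ a⁻¹ = a⁻¹
    rw [map_inv₀, show σ a = a from ha]

theorem mem_FF {a : E} : a ∈ FF σ ↔ σ a = a := Iff.rfl

/-- `σ` over its fixed field -/
def phi : E ≃ₐ[FF σ] E := AlgEquiv.ofRingEquiv (f := σ) fun r => r.2

theorem phi_apply (a : E) : phi σ a = σ a := rfl

theorem coe_phi : (phi σ : E ≃+* E) = σ := RingEquiv.ext fun _ => rfl

theorem pair (h2 : (2 : E) = 0) (h3 : ∀ a, σ (σ (σ a)) = a) : CubicPair (phi σ) where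
  two := h2
  three := h3
  fixed t ht := ⟨⟨t, ht⟩, rfl⟩

/-- the cubic datum -/
noncomputable def cub (h2 : (2 : E) = 0) (h3 : ∀ a, σ (σ (σ a)) = a) : Cubic (FF σ) E := OfPair.cubic (pair σ h2 h3)

variable {σ} {h2 : (2 : E) = 0} {h3 : ∀ a, σ (σ (σ a)) = a}

theorem cub_sh (a : E) : (cub σ h2 h3).sh a = shp σ a := rfl

theorem cub_N (a : E) : ((cub σ h2 h3).N a : E) = nrm σ a := algebraMap_nm (pair σ h2 h3) a

theorem cub_tr (a : E) : ((cub σ h2 h3).tr a : E) = a + σ a + σ (σ a) := algebraMap_tr (pair σ h2 h3) a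

end field

variable {E : Type*} [Field E] {σ : E ≃+* E} {G : Type*} [Group G] {x : ZMod 12 → E → G} {t : G}
  {V : ZMod 12 → Subgroup G}

/-- the labels of the grown root groups -/
def Y (x z : ZMod 12 → E → G) (k : ZMod 12) (a b : E) : G := x k a * z k b

section Y

variable (g : Gr σ x t V) {z : ZMod 12 → E → G} (L : Lab σ x t V z)

include g L

theorem z_zero (k : ZMod 12) : z k 0 = 1 := by
  have h1 := L.add k 0 0 (ok_zero σ k) (ok_zero σ k)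
  rw [add_zero] at h1
  exact left_eq_mul.1 h1

theorem Y_zero_right (k : ZMod 12) (a : E) : Y x z k a 0 = x k a := by
  unfold Y
  rw [z_zero g L, mul_one]

theorem Y_mem {k : ZMod 12} {a b : E} (ha : Ok σ k a) (hb : Ok σ k b) : Y x z k a b ∈ V k :=
  mul_mem (g.le k a ha) (L.mem k b hb)

theorem Y_surj {k : ZMod 12} {y : G} (hy : y ∈ V k) : ∃ a b, Ok σ k a ∧ Ok σ k b ∧ y = Y x z k a b := by
  obtain ⟨b, hb, e⟩ := g.br k y hy
  have hz := L.mem k b hb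
  have hzi : (z k b)⁻¹ = z k b := inv_eq_of_mul_eq_one_left (g.sq k _ hz)
  have h1 : ⁅t, y * z k b⁆ = x k (b + b) := br_mul g hy hb hb e (L.br k b hb)
  rw [g.hex.add_self, g.hex.x_zero, commutatorElement_def, mul_inv_eq_one, mul_inv_eq_iff_eq_mul] at h1
  obtain ⟨a, ha, e'⟩ := g.fix k _ (mul_mem hy hz) h1.symm
  refine ⟨a, b, ha, hb, ?_⟩
  unfold Y
  rw [← e', mul_assoc, g.sq k _ hz, mul_one]

theorem Y_br {k : ZMod 12} {a b : E} (ha : Ok σ k a) (hb : Ok σ k b) : ⁅t, Y x z k a b⁆ = x k b := by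
  have h0 : ⁅t, x k a⁆ = x k 0 := by
    rw [g.hex.x_zero, commutatorElement_def, g.tx k a ha]
    group
  have := br_mul g (g.le k a ha) (ok_zero σ k) hb h0 (L.br k b hb)
  rwa [zero_add] at this

theorem Y_add {k : ZMod 12} {a b a' b' : E} (ha : Ok σ k a) (hb : Ok σ k b) (ha' : Ok σ k a') (hb' : Ok σ k b') :
    Y x z k (a + a') (b + b') = Y x z k a b * Y x z k a' b' := by
  unfold Y
  rw [g.hex.add k a a' ha ha', L.add k b b' hb hb']
  have e := comm_V g (L.mem k b hb) (g.le k a' ha')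
  calc x k a * x k a' * (z k b * z k b') = x k a * (x k a' * z k b) * z k b' := by group
    _ = _ := by rw [← e]; group

theorem Y_inj {k : ZMod 12} {a b a' b' : E} (ha : Ok σ k a) (hb : Ok σ k b) (ha' : Ok σ k a') (hb' : Ok σ k b')
    (e : Y x z k a b = Y x z k a' b') : a = a' ∧ b = b' := by
  have h1 : b = b' := by
    rw [← g.hex.x_inj hb hb', ← Y_br g L ha hb, ← Y_br g L ha' hb', e]
  subst h1
  refine ⟨?_, rfl⟩
  unfold Y at e
  exact (g.hex.x_inj ha ha').1 (mul_right_cancel e)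

theorem Y_t {k : ZMod 12} {a b : E} (ha : Ok σ k a) (hb : Ok σ k b) :
    t * Y x z k a b * t⁻¹ = Y x z k (a + b) b := by
  rw [t_conj (Y_br g L ha hb)]
  unfold Y
  rw [← mul_assoc, ← g.hex.add k b a hb ha, add_comm b a]

theorem Y_refl (c : ZMod 12) {k : ZMod 12} {a b : E} (ha : Ok σ k a) (hb : Ok σ k b) :
    nn x c * Y x z k a b * (nn x c)⁻¹ = Y x z (2 * c + 6 - k) a b := by
  unfold Y
  rw [← g.hex.refl c k ha, ← L.refl c k b hb]
  group

theorem Y_tor1 {s : E} (hs : s ≠ 0) {k : ZMod 12} {a b : E} (ha : Ok σ k a) (hb : Ok σ k b) :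
    hh x 1 s * Y x z k a b * (hh x 1 s)⁻¹ = Y x z k (chS σ (k - 1) s * a) (chS σ (k - 1) s * b) := by
  unfold Y
  rw [← g.hex.tor1 s hs k a ha, ← L.tor1 s hs k b hb]
  group

theorem Y_tor6 {s : E} (hs : s ≠ 0) (hs' : σ s = s) {k : ZMod 12} {a b : E} (ha : Ok σ k a) (hb : Ok σ k b) :
    hh x 6 s * Y x z k a b * (hh x 6 s)⁻¹ = Y x z k (chL (k - 6) s * a) (chL (k - 6) s * b) := by
  unfold Y
  rw [← g.hex.tor6 s hs hs' k a ha, ← L.tor6 s hs hs' k b hb]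
  group

theorem Y_tor {s u : E} (hs : s ≠ 0) (hu : u ≠ 0) (hu' : σ u = u) {k : ZMod 12} {a b : E} (ha : Ok σ k a)
    (hb : Ok σ k b) : hh x 1 s * hh x 6 u * Y x z k a b * (hh x 1 s * hh x 6 u)⁻¹ =
      Y x z k (chS σ (k - 1) s * chL (k - 6) u * a) (chS σ (k - 1) s * chL (k - 6) u * b) := by
  have hw : Ok σ k (chL (k - 6) u) := g.hex.ok_chi 6 k (ok_of_fix _ hu')
  have e : hh x 1 s * hh x 6 u * Y x z k a b * (hh x 1 s * hh x 6 u)⁻¹ =
      hh x 1 s * (hh x 6 u * Y x z k a b * (hh x 6 u)⁻¹) * (hh x 1 s)⁻¹ := by group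
  rw [e, Y_tor6 g L hu hu' ha hb, Y_tor1 g L hs (hw.mul ha) (hw.mul hb), mul_assoc, mul_assoc]

end Y

/-! ### Products -/

section prod

theorem exists_mul_of_mem_sup {H K : Subgroup G} (h : ∀ k ∈ K, ∀ a ∈ H, k * a * k⁻¹ ∈ H) {y : G} (hy : y ∈ H ⊔ K) :
    ∃ a ∈ H, ∃ k ∈ K, y = a * k := by
  let P : Subgroup G :=
    { carrier := {y | ∃ a ∈ H, ∃ k ∈ K, y = a * k}
      one_mem' := ⟨1, one_mem _, 1, one_mem _, (mul_one 1).symm⟩
      mul_mem' := by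
        rintro _ _ ⟨a, ha, k, hk, rfl⟩ ⟨b, hb, l, hl, rfl⟩
        exact ⟨a * (k * b * k⁻¹), mul_mem ha (h k hk b hb), k * l, mul_mem hk hl, by group⟩
      inv_mem' := by
        rintro _ ⟨a, ha, k, hk, rfl⟩
        exact ⟨k⁻¹ * a⁻¹ * (k⁻¹)⁻¹, h _ (inv_mem hk) _ (inv_mem ha), k⁻¹, inv_mem hk, by group⟩ }
  have hP : H ⊔ K ≤ P := by
    rw [sup_le_iff]
    exact ⟨fun a ha => ⟨a, ha, 1, one_mem _, (mul_one a).symm⟩, fun k hk => ⟨1, one_mem _, k, hk, (one_mul k).symm⟩⟩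
  exact hP hy

theorem norm_of_comm {H K : Subgroup G} (h : ∀ a ∈ H, ∀ k ∈ K, a * k = k * a) : ∀ k ∈ K, ∀ a ∈ H, k * a * k⁻¹ ∈ H := by
  intro k hk a ha
  rw [← h a ha k hk, mul_inv_cancel_right]
  exact ha

variable (g : Gr σ x t V)

include g

theorem V_inv {k : ZMod 12} {y : G} (hy : y ∈ V k) : y⁻¹ = y := inv_eq_of_mul_eq_one_left (g.sq k y hy)

/-- the element `c` with `b a = a (c b)` -/
theorem swap {k l : ZMod 12} {a b : G} (ha : a ∈ V k) (hb : b ∈ V l) : b * a = a * (⁅a, b⁆ * b) := by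
  rw [commutatorElement_def, V_inv g ha, V_inv g hb]
  have h1 := g.sq k a ha
  have h2 := g.sq l b hb
  calc b * a = 1 * b * a * 1 := by group
    _ = (a * a) * b * a * (b * b) := by rw [h1, h2]
    _ = a * (a * b * a * b * b) := by group

theorem J_decomp {y : G} (hy : y ∈ V 2 ⊔ V 3 ⊔ V 4) : ∃ p ∈ V 2, ∃ w ∈ V 3, ∃ q ∈ V 4, y = p * (w * q) := by
  have c23 : ∀ a ∈ V 2, ∀ k ∈ V 3, a * k = k * a := g.c1 2
  have c34 : ∀ a ∈ V 3, ∀ k ∈ V 4, a * k = k * a := g.c1 3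
  have c24 : ∀ a ∈ V 2, ∀ k ∈ V 4, a * k = k * a := g.l2 2 (by decide)
  have n1 : ∀ k ∈ V 4, ∀ a ∈ V 2 ⊔ V 3, k * a * k⁻¹ ∈ V 2 ⊔ V 3 := by
    intro k hk a ha
    obtain ⟨p, hp, w, hw, rfl⟩ := exists_mul_of_mem_sup (norm_of_comm c23) ha
    have : k * (p * w) * k⁻¹ = p * w := by
      rw [← mul_assoc, ← c24 p hp k hk, mul_assoc p, ← c34 w hw k hk]
      group
    rw [this]; exact ha
  obtain ⟨a, ha, q, hq, rfl⟩ := exists_mul_of_mem_sup n1 hy
  obtain ⟨p, hp, w, hw, rfl⟩ := exists_mul_of_mem_sup (norm_of_comm c23) ha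
  exact ⟨p, hp, w, hw, q, hq, by rw [mul_assoc]⟩

theorem Q_decomp {y : G} (hy : y ∈ V 2 ⊔ V 3 ⊔ V 4 ⊔ V 5) :
    ∃ p ∈ V 2, ∃ w ∈ V 3, ∃ q ∈ V 4, ∃ d ∈ V 5, y = p * (w * (q * d)) := by
  have c25 : ∀ a ∈ V 2, ∀ k ∈ V 5, a * k = k * a := g.c3 2
  have c45 : ∀ a ∈ V 4, ∀ k ∈ V 5, a * k = k * a := g.c1 4
  have s35 : ∀ a ∈ V 3, ∀ k ∈ V 5, ⁅a, k⁆ ∈ V 4 := g.s2 3 (by decide)
  have n1 : ∀ k ∈ V 5, ∀ a ∈ V 2 ⊔ V 3 ⊔ V 4, k * a * k⁻¹ ∈ V 2 ⊔ V 3 ⊔ V 4 := by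
    intro k hk a ha
    obtain ⟨p, hp, w, hw, q, hq, rfl⟩ := J_decomp g ha
    have e1 : k * w = w * (⁅w, k⁆ * k) := swap g hw hk
    have e : k * (p * (w * q)) * k⁻¹ = p * (w * (⁅w, k⁆ * q)) := by
      calc k * (p * (w * q)) * k⁻¹ = (k * p) * (w * q) * k⁻¹ := by group
        _ = p * (k * w) * q * k⁻¹ := by rw [← c25 p hp k hk]; group
        _ = p * (w * (⁅w, k⁆ * k)) * q * k⁻¹ := by rw [e1]
        _ = p * (w * (⁅w, k⁆ * (k * q * k⁻¹))) := by group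
        _ = _ := by rw [← c45 q hq k hk]; group
    rw [e]
    have i2 : V 2 ≤ V 2 ⊔ V 3 ⊔ V 4 := le_sup_of_le_left le_sup_left
    have i3 : V 3 ≤ V 2 ⊔ V 3 ⊔ V 4 := le_sup_of_le_left le_sup_right
    have i4 : V 4 ≤ V 2 ⊔ V 3 ⊔ V 4 := le_sup_right
    exact mul_mem (i2 hp) (mul_mem (i3 hw) (mul_mem (i4 (s35 w hw k hk)) (i4 hq)))
  obtain ⟨a, ha, d, hd, rfl⟩ := exists_mul_of_mem_sup n1 hy
  obtain ⟨p, hp, w, hw, q, hq, rfl⟩ := J_decomp g ha
  exact ⟨p, hp, w, hw, q, hq, d, hd, by group⟩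

end prod

/-! ### The torus in the coordinates of `Pos` -/

section torus

variable [Finite E]

theorem exists_sqrt (h2 : (2 : E) = 0) (a : E) : ∃ b : E, b ^ 2 = a := by
  have : CharP E 2 := CharTwo.of_one_ne_zero_of_two_eq_zero one_ne_zero h2
  have hinj : Function.Injective (fun b : E => b ^ 2) := by
    intro b c e
    have e' : b ^ 2 = c ^ 2 := e
    have h : (b - c) ^ 2 = 0 := by
      linear_combination e' + (c ^ 2 - b * c) * h2
    exact sub_eq_zero.1 (pow_eq_zero_iff two_ne_zero |>.1 h)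
  exact Finite.surjective_of_injective hinj a

theorem sq_inj (h2 : (2 : E) = 0) {b c : E} (e : b ^ 2 = c ^ 2) : b = c := by
  have h : (b - c) ^ 2 = 0 := by
    linear_combination e + (c ^ 2 - b * c) * h2
  exact sub_eq_zero.1 (pow_eq_zero_iff two_ne_zero |>.1 h)

/-- square root of `k N(k)` -/
noncomputable def rt (σ : E ≃+* E) (h2 : (2 : E) = 0) (k : E) : E := Classical.choose (exists_sqrt h2 (k * nrm σ k))

theorem rt_sq (h2 : (2 : E) = 0) (k : E) : rt σ h2 k ^ 2 = k * nrm σ k := Classical.choose_spec (exists_sqrt h2 _)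

theorem rt_ne (h2 : (2 : E) = 0) {k : E} (hk : k ≠ 0) : rt σ h2 k ≠ 0 := by
  intro h0
  have := rt_sq (σ := σ) h2 k
  rw [h0, zero_pow two_ne_zero] at this
  exact mul_ne_zero hk (nrm_ne_zero hk) this.symm

theorem nrm_sq (k : E) : nrm σ (k ^ 2) = nrm σ k ^ 2 := by
  unfold nrm
  rw [map_pow, map_pow]
  ring

theorem nrm_nrm (h3 : ∀ a, σ (σ (σ a)) = a) (k : E) : nrm σ (nrm σ k) = nrm σ k ^ 3 := by
  have e := nrm_fix h3 k
  have : nrm σ (nrm σ k) = nrm σ k * σ (nrm σ k) * σ (σ (nrm σ k)) := rfl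
  rw [this, e, e]
  ring

theorem nrm_rt (h2 : (2 : E) = 0) (h3 : ∀ a, σ (σ (σ a)) = a) (k : E) : nrm σ (rt σ h2 k) = nrm σ k ^ 2 := by
  apply sq_inj h2
  rw [← nrm_sq, rt_sq, nrm_mul, nrm_nrm h3]
  ring

theorem mul_shp (k : E) : k * shp σ k = nrm σ k := by
  unfold shp nrm
  ring

/-- the torus element -/
noncomputable def hp (σ : E ≃+* E) (x : ZMod 12 → E → G) (h2 : (2 : E) = 0) (k l : E) : G :=
  hh x 1 (l * rt σ h2 k) * hh x 6 (l ^ 2 * nrm σ k)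

theorem nrm_l {l : E} (hl : σ l = l) : nrm σ l = l ^ 3 := by
  unfold nrm
  rw [hl, hl]
  ring

variable (h2 : (2 : E) = 0) (h3 : ∀ a, σ (σ (σ a)) = a) {k l : E} (hk : k ≠ 0) (hl : l ≠ 0) (hl' : σ l = l)

include h3 hk hl hl'

theorem w1 : chS σ (1 - 1) (l * rt σ h2 k) * chL (1 - 6) (l ^ 2 * nrm σ k) = k := by
  change (l * rt σ h2 k) ^ 2 * (l ^ 2 * nrm σ k)⁻¹ = k
  have hn := nrm_ne_zero (σ := σ) hk
  rw [mul_pow, rt_sq]
  field_simp

theorem w2 : chS σ (2 - 1) (l * rt σ h2 k) * chL (2 - 6) (l ^ 2 * nrm σ k) = nrm σ k * l := by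
  change nrm σ (l * rt σ h2 k) * (l ^ 2 * nrm σ k)⁻¹ = _
  have hn := nrm_ne_zero (σ := σ) hk
  rw [nrm_mul, nrm_rt h2 h3, nrm_l hl']
  field_simp

theorem w3 : chS σ (3 - 1) (l * rt σ h2 k) * chL (3 - 6) (l ^ 2 * nrm σ k) = shp σ k * l := by
  change (l * rt σ h2 k)⁻¹ * shp σ (l * rt σ h2 k) * 1 = _
  have hn := nrm_ne_zero (σ := σ) hk
  have hr := rt_ne (σ := σ) h2 hk
  have hs : l * rt σ h2 k ≠ 0 := mul_ne_zero hl hr
  have e1 : (l * rt σ h2 k) ^ 2 * ((l * rt σ h2 k)⁻¹ * shp σ (l * rt σ h2 k)) = nrm σ (l * rt σ h2 k) := by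
    rw [← mul_shp (σ := σ) (l * rt σ h2 k)]
    field_simp
  have e2 : (l * rt σ h2 k) ^ 2 * (shp σ k * l) = nrm σ (l * rt σ h2 k) := by
    rw [nrm_mul, nrm_rt h2 h3, nrm_l hl', mul_pow, rt_sq, ← mul_shp (σ := σ) k]
    ring
  rw [mul_one]
  exact mul_left_cancel₀ (pow_ne_zero 2 hs) (e1.trans e2.symm)

theorem w4 : chS σ (4 - 1) (l * rt σ h2 k) * chL (4 - 6) (l ^ 2 * nrm σ k) = nrm σ k * l ^ 2 := by
  change 1 * (l ^ 2 * nrm σ k) = _
  ring

theorem w6 : chS σ (6 - 1) (l * rt σ h2 k) * chL (6 - 6) (l ^ 2 * nrm σ k) = l := by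
  change (nrm σ (l * rt σ h2 k))⁻¹ * (l ^ 2 * nrm σ k) ^ 2 = l
  have hn := nrm_ne_zero (σ := σ) hk
  rw [nrm_mul, nrm_rt h2 h3, nrm_l hl']
  field_simp

theorem w5 : chS σ (5 - 1) (l * rt σ h2 k) * chL (5 - 6) (l ^ 2 * nrm σ k) = k * l := by
  change (l * rt σ h2 k) * (shp σ (l * rt σ h2 k))⁻¹ * (l ^ 2 * nrm σ k) = k * l
  have hn := nrm_ne_zero (σ := σ) hk
  have hr := rt_ne (σ := σ) h2 hk
  have hs : l * rt σ h2 k ≠ 0 := mul_ne_zero hl hr
  have hs' := shp_ne_zero (σ := σ) hs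
  have e1 : (l * rt σ h2 k) * shp σ (l * rt σ h2 k) = l ^ 3 * nrm σ k ^ 2 := by
    rw [mul_shp, nrm_mul, nrm_rt h2 h3, nrm_l hl']
  have e2 : (l * rt σ h2 k) ^ 2 = l ^ 2 * (k * nrm σ k) := by rw [mul_pow, rt_sq]
  rw [mul_comm (l * rt σ h2 k), mul_assoc, inv_mul_eq_iff_eq_mul₀ hs']
  refine mul_left_cancel₀ hs ?_
  calc l * rt σ h2 k * (l * rt σ h2 k * (l ^ 2 * nrm σ k)) = (l * rt σ h2 k) ^ 2 * (l ^ 2 * nrm σ k) := by ring
    _ = (l ^ 3 * nrm σ k ^ 2) * (k * l) := by rw [e2]; ring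
    _ = l * rt σ h2 k * (shp σ (l * rt σ h2 k) * (k * l)) := by rw [← e1]; ring

end torus

/-! ### The structure `Pos` -/

section pos

variable {F K : Type*} [Field F] [Field K] [Algebra F K] {φ : K ≃ₐ[F] K} (hφ : CubicPair φ) [Finite K]
  {x : ZMod 12 → K → G} (g : Gr (φ : K ≃+* K) x t V) {z : ZMod 12 → K → G} (L : Lab (φ : K ≃+* K) x t V z)

theorem okF (k : ZMod 12) (a : F) : Ok (φ : K ≃+* K) k (algebraMap F K a) := fun _ => φ.commutes a

include hφ in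
theorem exists_F {a : K} (h : (φ : K ≃+* K) a = a) : ∃ b : F, algebraMap F K b = a := hφ.fixed a h

theorem algebraMap_nm' (a : K) : algebraMap F K ((OfPair.cubic hφ).N a) = nrm (φ : K ≃+* K) a := algebraMap_nm hφ a

theorem algebraMap_tr' (a b : K) : algebraMap F K ((OfPair.cubic hφ).T a b) = trc (φ : K ≃+* K) a b :=
  algebraMap_tr hφ (a * b)

/-- **The input of the ring part.** -/
noncomputable def pos : HexRing.Def.Pos (OfPair.cubic hφ) G where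
  y1 v := Y x z 1 v.1 v.2
  y2 v := Y x z 2 (algebraMap F K v.1) (algebraMap F K v.2)
  y3 v := Y x z 3 v.1 v.2
  y4 v := Y x z 4 (algebraMap F K v.1) (algebraMap F K v.2)
  y5 v := Y x z 5 v.1 v.2
  y6 v := Y x z 6 (algebraMap F K v.1) (algebraMap F K v.2)
  add1 v w := Y_add g L (ok1 _) (ok1 _) (ok1 _) (ok1 _)
  add2 v w := by
    rw [Prod.fst_add, Prod.snd_add, map_add, map_add]
    exact Y_add g L (okF _ _) (okF _ _) (okF _ _) (okF _ _)
  add3 v w := Y_add g L (ok3 _) (ok3 _) (ok3 _) (ok3 _)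
  add4 v w := by
    rw [Prod.fst_add, Prod.snd_add, map_add, map_add]
    exact Y_add g L (okF _ _) (okF _ _) (okF _ _) (okF _ _)
  add5 v w := Y_add g L (ok5 _) (ok5 _) (ok5 _) (ok5 _)
  add6 v w := by
    rw [Prod.fst_add, Prod.snd_add, map_add, map_add]
    exact Y_add g L (okF _ _) (okF _ _) (okF _ _) (okF _ _)
  r21 v w := (g.c1 1 _ (Y_mem g L (ok1 _) (ok1 _)) _ (Y_mem g L (okF _ _) (okF _ _))).symm
  s31 b a := by
    have ha := Y_mem g L (ok1 a.1) (ok1 a.2)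
    have hb := Y_mem g L (ok3 b.1) (ok3 b.2)
    obtain ⟨p, q, hp, hq, e⟩ := Y_surj g L (g.s2 1 (by decide) _ ha _ hb)
    obtain ⟨p', rfl⟩ := exists_F hφ (hp (by decide))
    obtain ⟨q', rfl⟩ := exists_F hφ (hq (by decide))
    refine ⟨(p', q'), ?_⟩
    rw [swap g ha hb, e]
    rfl
  r41 v w := (g.c3 1 _ (Y_mem g L (ok1 _) (ok1 _)) _ (Y_mem g L (okF _ _) (okF _ _))).symm
  s51 b a := by
    have ha := Y_mem g L (ok1 a.1) (ok1 a.2)
    have hb := Y_mem g L (ok5 b.1) (ok5 b.2)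
    obtain ⟨p, hp, w, hw, q, hq, e⟩ := J_decomp g (g.s4 1 (by decide) _ ha _ hb)
    obtain ⟨p1, p2, hp1, hp2, rfl⟩ := Y_surj g L hp
    obtain ⟨w1, w2, hw1, hw2, rfl⟩ := Y_surj g L hw
    obtain ⟨q1, q2, hq1, hq2, rfl⟩ := Y_surj g L hq
    obtain ⟨p1, rfl⟩ := exists_F hφ (hp1 (by decide))
    obtain ⟨p2, rfl⟩ := exists_F hφ (hp2 (by decide))
    obtain ⟨q1, rfl⟩ := exists_F hφ (hq1 (by decide))
    obtain ⟨q2, rfl⟩ := exists_F hφ (hq2 (by decide))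
    refine ⟨(p1, p2), (w1, w2), (q1, q2), ?_⟩
    rw [swap g ha hb, e]
    simp only [mul_assoc]
  s61 b a := by
    have ha := Y_mem g L (ok1 a.1) (ok1 a.2)
    have hb := Y_mem g L (okF 6 b.1) (okF 6 b.2)
    obtain ⟨p, hp, w, hw, q, hq, d, hd, e⟩ := Q_decomp g (g.c5 1 _ ha _ hb)
    obtain ⟨p1, p2, hp1, hp2, rfl⟩ := Y_surj g L hp
    obtain ⟨w1, w2, hw1, hw2, rfl⟩ := Y_surj g L hw
    obtain ⟨q1, q2, hq1, hq2, rfl⟩ := Y_surj g L hq
    obtain ⟨d1, d2, hd1, hd2, rfl⟩ := Y_surj g L hd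
    obtain ⟨p1, rfl⟩ := exists_F hφ (hp1 (by decide))
    obtain ⟨p2, rfl⟩ := exists_F hφ (hp2 (by decide))
    obtain ⟨q1, rfl⟩ := exists_F hφ (hq1 (by decide))
    obtain ⟨q2, rfl⟩ := exists_F hφ (hq2 (by decide))
    refine ⟨(p1, p2), (w1, w2), (q1, q2), (d1, d2), ?_⟩
    rw [swap g ha hb, e]
    simp only [mul_assoc]
  r32 v w := (g.c1 2 _ (Y_mem g L (okF _ _) (okF _ _)) _ (Y_mem g L (ok3 _) (ok3 _))).symm
  r42 v w := (g.l2 2 (by decide) _ (Y_mem g L (okF _ _) (okF _ _)) _ (Y_mem g L (okF _ _) (okF _ _))).symm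
  r52 v w := (g.c3 2 _ (Y_mem g L (okF _ _) (okF _ _)) _ (Y_mem g L (ok5 _) (ok5 _))).symm
  s62 b a := by
    have ha := Y_mem g L (okF 2 a.1) (okF 2 a.2)
    have hb := Y_mem g L (okF 6 b.1) (okF 6 b.2)
    obtain ⟨p, q, hp, hq, e⟩ := Y_surj g L (g.l4 2 (by decide) _ ha _ hb)
    obtain ⟨p', rfl⟩ := exists_F hφ (hp (by decide))
    obtain ⟨q', rfl⟩ := exists_F hφ (hq (by decide))
    refine ⟨(p', q'), ?_⟩
    rw [swap g ha hb, e]
    rfl
  r43 v w := (g.c1 3 _ (Y_mem g L (ok3 _) (ok3 _)) _ (Y_mem g L (okF _ _) (okF _ _))).symm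
  s53 b a := by
    have ha := Y_mem g L (ok3 a.1) (ok3 a.2)
    have hb := Y_mem g L (ok5 b.1) (ok5 b.2)
    obtain ⟨p, q, hp, hq, e⟩ := Y_surj g L (g.s2 3 (by decide) _ ha _ hb)
    obtain ⟨p', rfl⟩ := exists_F hφ (hp (by decide))
    obtain ⟨q', rfl⟩ := exists_F hφ (hq (by decide))
    refine ⟨(p', q'), ?_⟩
    rw [swap g ha hb, e]
    rfl
  r63 v w := (g.c3 3 _ (Y_mem g L (ok3 _) (ok3 _)) _ (Y_mem g L (okF _ _) (okF _ _))).symm
  r54 v w := (g.c1 4 _ (Y_mem g L (okF _ _) (okF _ _)) _ (Y_mem g L (ok5 _) (ok5 _))).symm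
  r64 v w := (g.l2 4 (by decide) _ (Y_mem g L (okF _ _) (okF _ _)) _ (Y_mem g L (okF _ _) (okF _ _))).symm
  r65 v w := (g.c1 5 _ (Y_mem g L (ok5 _) (ok5 _)) _ (Y_mem g L (okF _ _) (okF _ _))).symm
  inj a b c d e f a' b' c' d' e' f' h := by
    obtain ⟨h1, h2, h3, h4, h5, h6⟩ := g.nf _ (Y_mem g L (ok1 a.1) (ok1 a.2)) _ (Y_mem g L (okF 2 b.1) (okF 2 b.2))
      _ (Y_mem g L (ok3 c.1) (ok3 c.2)) _ (Y_mem g L (okF 4 d.1) (okF 4 d.2)) _ (Y_mem g L (ok5 e.1) (ok5 e.2))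
      _ (Y_mem g L (okF 6 f.1) (okF 6 f.2)) _ (Y_mem g L (ok1 a'.1) (ok1 a'.2)) _
      (Y_mem g L (okF 2 b'.1) (okF 2 b'.2)) _ (Y_mem g L (ok3 c'.1) (ok3 c'.2)) _
      (Y_mem g L (okF 4 d'.1) (okF 4 d'.2)) _ (Y_mem g L (ok5 e'.1) (ok5 e'.2)) _
      (Y_mem g L (okF 6 f'.1) (okF 6 f'.2)) (by simpa only [mul_assoc] using h)
    have ai := (algebraMap F K).injective
    obtain ⟨a1, a2⟩ := Y_inj g L (ok1 _) (ok1 _) (ok1 _) (ok1 _) h1
    obtain ⟨b1, b2⟩ := Y_inj g L (okF _ _) (okF _ _) (okF _ _) (okF _ _) h2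
    obtain ⟨c1, c2⟩ := Y_inj g L (ok3 _) (ok3 _) (ok3 _) (ok3 _) h3
    obtain ⟨d1, d2⟩ := Y_inj g L (okF _ _) (okF _ _) (okF _ _) (okF _ _) h4
    obtain ⟨e1, e2⟩ := Y_inj g L (ok5 _) (ok5 _) (ok5 _) (ok5 _) h5
    obtain ⟨f1, f2⟩ := Y_inj g L (okF _ _) (okF _ _) (okF _ _) (okF _ _) h6
    exact ⟨Prod.ext a1 a2, Prod.ext (ai b1) (ai b2), Prod.ext c1 c2,
      Prod.ext (ai d1) (ai d2), Prod.ext e1 e2, Prod.ext (ai f1) (ai f2)⟩
  rel := by
    have h := OfHexRel.posRel_of_hexRel hφ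
      (x1 := x 1) (x2 := x 2) (x3 := x 3) (x4 := x 4) (x5 := x 5) (x6 := x 6) g.hex.rel
    have e : ∀ (k : ZMod 12) (a : K), Y x z k a 0 = x k a := fun k a => Y_zero_right g L k a
    simp only [e, map_zero]
    exact h
  t := t
  t1 v := Y_t g L (ok1 _) (ok1 _)
  t2 v := by
    rw [map_add]
    exact Y_t g L (okF _ _) (okF _ _)
  t3 v := Y_t g L (ok3 _) (ok3 _)
  t4 v := by
    rw [map_add]
    exact Y_t g L (okF _ _) (okF _ _)
  t5 v := Y_t g L (ok5 _) (ok5 _)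
  t6 v := by
    rw [map_add]
    exact Y_t g L (okF _ _) (okF _ _)
  h k l := hp (φ : K ≃+* K) x hφ.two k (algebraMap F K l)
  h1 k l hk hl v := by
    have hl' : algebraMap F K l ≠ 0 := by
      rw [Ne, map_eq_zero]
      exact hl
    have hσl : (φ : K ≃+* K) (algebraMap F K l) = algebraMap F K l := φ.commutes l
    have := Y_tor g L (k := 1) (s := algebraMap F K l * rt (φ : K ≃+* K) hφ.two k)
      (u := algebraMap F K l ^ 2 * nrm (φ : K ≃+* K) k)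
      (mul_ne_zero hl' (rt_ne hφ.two hk)) (mul_ne_zero (pow_ne_zero 2 hl') (nrm_ne_zero hk))
      (by rw [map_mul, map_pow, hσl, nrm_fix g.hex.cube]) (ok1 v.1) (ok1 v.2)
    rw [w1 hφ.two g.hex.cube hk hl' hσl] at this
    exact this
  h2 k l hk hl v := by
    have hl' : algebraMap F K l ≠ 0 := by
      rw [Ne, map_eq_zero]
      exact hl
    have hσl : (φ : K ≃+* K) (algebraMap F K l) = algebraMap F K l := φ.commutes l
    have := Y_tor g L (k := 2) (s := algebraMap F K l * rt (φ : K ≃+* K) hφ.two k)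
      (u := algebraMap F K l ^ 2 * nrm (φ : K ≃+* K) k)
      (mul_ne_zero hl' (rt_ne hφ.two hk)) (mul_ne_zero (pow_ne_zero 2 hl') (nrm_ne_zero hk))
      (by rw [map_mul, map_pow, hσl, nrm_fix g.hex.cube]) (okF _ v.1) (okF _ v.2)
    rw [w2 hφ.two g.hex.cube hk hl' hσl] at this
    refine this.trans ?_
    change _ = Y x z 2 (algebraMap F K (((OfPair.cubic hφ).N k * l) * v.1)) (algebraMap F K (((OfPair.cubic hφ).N k * l) * v.2))
    simp only [_root_.map_mul, algebraMap_nm' hφ]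
  h3 k l hk hl v := by
    have hl' : algebraMap F K l ≠ 0 := by
      rw [Ne, map_eq_zero]
      exact hl
    have hσl : (φ : K ≃+* K) (algebraMap F K l) = algebraMap F K l := φ.commutes l
    have := Y_tor g L (k := 3) (s := algebraMap F K l * rt (φ : K ≃+* K) hφ.two k)
      (u := algebraMap F K l ^ 2 * nrm (φ : K ≃+* K) k)
      (mul_ne_zero hl' (rt_ne hφ.two hk)) (mul_ne_zero (pow_ne_zero 2 hl') (nrm_ne_zero hk))
      (by rw [map_mul, map_pow, hσl, nrm_fix g.hex.cube]) (ok3 v.1) (ok3 v.2)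
    rw [w3 hφ.two g.hex.cube hk hl' hσl] at this
    exact this
  h4 k l hk hl v := by
    have hl' : algebraMap F K l ≠ 0 := by
      rw [Ne, map_eq_zero]
      exact hl
    have hσl : (φ : K ≃+* K) (algebraMap F K l) = algebraMap F K l := φ.commutes l
    have := Y_tor g L (k := 4) (s := algebraMap F K l * rt (φ : K ≃+* K) hφ.two k)
      (u := algebraMap F K l ^ 2 * nrm (φ : K ≃+* K) k)
      (mul_ne_zero hl' (rt_ne hφ.two hk)) (mul_ne_zero (pow_ne_zero 2 hl') (nrm_ne_zero hk))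
      (by rw [map_mul, map_pow, hσl, nrm_fix g.hex.cube]) (okF _ v.1) (okF _ v.2)
    rw [w4 hφ.two g.hex.cube hk hl' hσl] at this
    refine this.trans ?_
    change _ = Y x z 4 (algebraMap F K (((OfPair.cubic hφ).N k * l ^ 2) * v.1)) (algebraMap F K (((OfPair.cubic hφ).N k * l ^ 2) * v.2))
    simp only [_root_.map_mul, map_pow, algebraMap_nm' hφ]
  h5 k l hk hl v := by
    have hl' : algebraMap F K l ≠ 0 := by
      rw [Ne, map_eq_zero]
      exact hl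
    have hσl : (φ : K ≃+* K) (algebraMap F K l) = algebraMap F K l := φ.commutes l
    have := Y_tor g L (k := 5) (s := algebraMap F K l * rt (φ : K ≃+* K) hφ.two k)
      (u := algebraMap F K l ^ 2 * nrm (φ : K ≃+* K) k)
      (mul_ne_zero hl' (rt_ne hφ.two hk)) (mul_ne_zero (pow_ne_zero 2 hl') (nrm_ne_zero hk))
      (by rw [map_mul, map_pow, hσl, nrm_fix g.hex.cube]) (ok5 v.1) (ok5 v.2)
    rw [w5 hφ.two g.hex.cube hk hl' hσl] at this
    exact this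
  h6 k l hk hl v := by
    have hl' : algebraMap F K l ≠ 0 := by
      rw [Ne, map_eq_zero]
      exact hl
    have hσl : (φ : K ≃+* K) (algebraMap F K l) = algebraMap F K l := φ.commutes l
    have := Y_tor g L (k := 6) (s := algebraMap F K l * rt (φ : K ≃+* K) hφ.two k)
      (u := algebraMap F K l ^ 2 * nrm (φ : K ≃+* K) k)
      (mul_ne_zero hl' (rt_ne hφ.two hk)) (mul_ne_zero (pow_ne_zero 2 hl') (nrm_ne_zero hk))
      (by rw [map_mul, map_pow, hσl, nrm_fix g.hex.cube]) (okF _ v.1) (okF _ v.2)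
    rw [w6 hφ.two g.hex.cube hk hl' hσl] at this
    refine this.trans ?_
    change _ = Y x z 6 (algebraMap F K ((l) * v.1)) (algebraMap F K ((l) * v.2))
    rw [_root_.map_mul, _root_.map_mul]
  na := nn x 1
  nb := nn x 6
  na_sq := g.hex.nn_sq 1
  nb_sq := g.hex.nn_sq 6
  na2 v := by
    have := Y_refl g L 1 (k := 2) (okF _ v.1) (okF _ v.2)
    rw [g.hex.nn_inv] at this
    exact this
  na3 v := by
    have := Y_refl g L 1 (k := 3) (ok3 v.1) (ok3 v.2)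
    rw [g.hex.nn_inv] at this
    exact this
  na4 v := by
    have := Y_refl g L 1 (k := 4) (okF _ v.1) (okF _ v.2)
    rw [g.hex.nn_inv] at this
    exact this
  nb1 v := by
    have := Y_refl g L 6 (k := 1) (ok1 v.1) (ok1 v.2)
    rw [g.hex.nn_inv] at this
    exact this
  nb2 v := by
    have := Y_refl g L 6 (k := 2) (okF _ v.1) (okF _ v.2)
    rw [g.hex.nn_inv] at this
    exact this
  nb3 v := by
    have := Y_refl g L 6 (k := 3) (ok3 v.1) (ok3 v.2)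
    rw [g.hex.nn_inv] at this
    exact this
  rank1 := by
    have e : ∀ (k : ZMod 12) (a : K), Y x z k a 0 = x k a := fun k a => Y_zero_right g L k a
    have e1 : nn x 6 * x 6 1 * nn x 6 = x (6 + 6) 1 := g.hex.refl' 6 6 (ok_one _ 6)
    simp only [e, map_zero, map_one, e1]
    rfl

end pos

end Cfsg.Agent.HexEight.ToPos
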